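import Cfsg.Agent.Mrg.Omega.IId.M4.Entry
import Cfsg.Agent.Mrg.Omega.IId.ExcFree
import Cfsg.Agent.Mrg.Omega.IId.MatchSym
import Cfsg.Agent.Mrg.Omega.ThmC.Of

section


/-!
# II.d, `WrBig`: the entry to `BTS` for any number of factors (helper540)

`M : NatK F S P (zl S P) ⊥ k`, `V_i = fac M i`, `R = line M i`, `T = stab M i = N_S(V_i)`, `Q = O₂(N_G(R))`,
`CC M` = THEOREM C.

* `BOne M i` : `Q ≤ T`;
* `BOne.bts` : if `T` is a Sylow 2-subgroup of `N_G(V_i)` and `⟨V_i^{N_G(R)}⟩` is nonabelian: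
  `NatMod F V_i`, `BTS V_i (pt N)` and `V_j ≤ CenX V_i (pt N)` for all `j ≠ i`;
* `BFour M i` : `T` is a Sylow 2-subgroup of `N_G(R)`, `|F| ≥ 4`; `BFour.syl_fac`, `BFour.bts`.
-/

set_option autoImplicit false
set_option linter.unusedSectionVars false

namespace Cfsg.Agent.Omega.IId.BigFour

open Subgroup Cfsg Cfsg.Agent.ZN.ChoiceBase
open Cfsg.Agent.ZN (o2 zc zl)
open Cfsg.Agent.Omega.MinPar Cfsg.Agent.Omega.FFThm Cfsg.Agent.Omega.Frame
open Cfsg.Agent.Lib.SL2Mat
open Cfsg.Agent.Omega.NatPair (ap ap_mul ap_one ap_inv_ap ap_ap_inv exists_ap ap_add NatMod PreMod)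
open Cfsg.Agent.MinSimple.VModule (o2_isPGroup)
open Cfsg.Agent.Omega.IId.SideOf (exists_fixed_mod KR KR_le_o2 isPGroup_of_sq line_sq)
open Cfsg.Agent.Omega.IId.Two (le_normalizer_of)
open Cfsg.Agent.Omega.IId.Lns (exists_torus' exists_up)
open Cfsg.Agent.Omega.IId.FourSide (pre pre_e Nm_stab vec_ne)
open scoped commutatorElement

universe u

variable {G : Type u} [Group G] [Finite G] {F : Type} [Field F] [Finite F] [CharP F 2]
  {S : Sylow 2 G} {P : Subgroup G} {k : ℕ}

theorem pre_line {M : NatK F (S : Subgroup G) P (zl (S : Subgroup G) P) ⊥ k} {i : Fin k} :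
    (pre M i).line ![1, 0] = line M i := by
  ext g
  rw [PreMod.mem_line, mem_line]
  constructor
  · rintro ⟨c, rfl⟩
    refine ⟨(pre M i).e_mem _, ?_⟩
    rw [pre_e]
    simp
  · rintro ⟨hg, hg1⟩
    refine ⟨M.e g i 0, ext_fac M ((pre M i).e_mem _) hg ?_⟩
    rw [pre_e]
    apply NatPair.ext2
    · simp
    · rw [hg1]; simp

/-- `O₂(N_G(line M i)) ≤ stab M i` and THEOREM C. -/
structure BOne (M : NatK F (S : Subgroup G) P (zl (S : Subgroup G) P) ⊥ k) (i : Fin k) : Prop where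
  c2T : IsCharacteristicTwoType G
  par : IsParS (S : Subgroup G) P
  cc : CC M
  QT : o2 (normalizer (line M i : Set G)) ≤ stab M i

namespace BOne

variable {M : NatK F (S : Subgroup G) P (zl (S : Subgroup G) P) ⊥ k} {i : Fin k} (h : BOne M i)
include h

theorem le : (S : Subgroup G) ≤ P := h.par.isLoc.le

theorem T2 : IsPGroup 2 (stab M i) := S.isPGroup'.to_le (stab_le M i)

/-- `O₂(N_G(R))` centralises `R`. -/
theorem o2_cent_line : o2 (normalizer (line M i : Set G)) ≤ centralizer (line M i : Set G) := by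
  obtain ⟨r, hr, hr1, hrt⟩ := Half.exists_fixed (V := line M i) (isPGroup_of_sq (line_sq M i))
    (line_ne_bot i) (o2_isPGroup (normalizer (line M i : Set G))) (Cfsg.Agent.ZN.o2_le _)
  intro x hx
  rw [mem_centralizer_iff]
  intro r' hr'
  by_cases hr1' : r' = 1
  · rw [hr1', one_mul, mul_one]
  obtain ⟨g, -, hg, rfl⟩ := exists_tor M hr hr' hr1 hr1'
  have h1 : g⁻¹ * x * g ∈ o2 (normalizer (line M i : Set G)) := by
    have := (mem_normalizer_iff.1 (inv_mem (Cfsg.Agent.ZN.le_normalizer_o2 _ hg)) x).1 hx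
    rwa [inv_inv] at this
  have h2 := hrt _ h1
  calc g * r * g⁻¹ * x = g * (g⁻¹ * x * g * r * (g⁻¹ * x * g)⁻¹) * g⁻¹ * x := by rw [h2]
    _ = x * (g * r * g⁻¹) := by group

/-- `O₂(N_G(R))` centralises `V_i/R`. -/
theorem comm_fac : ∀ v ∈ fac M i, ∀ x ∈ o2 (normalizer (line M i : Set G)), x * v * x⁻¹ * v⁻¹ ∈ line M i := by
  have hSP : (S : Subgroup G) ≤ P := h.le
  have hQ := h.QT
  have hV2 : IsPGroup 2 (fac M i) := isPGroup_of_sq fun x hx => sq M (fac_le M i hx)
  have hab : ∀ x ∈ fac M i, ∀ y ∈ fac M i, x * y = y * x := fun x hx y hy =>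
    comm M (fac_le M i hx) (fac_le M i hy)
  have hne : ¬ fac M i ≤ line M i := by
    intro h
    obtain ⟨v, hv, hev⟩ := exists_fac M i ![0, 1]
    have h1 := ((mem_line M).1 (h hv)).2
    rw [hev] at h1
    simp at h1
  have hn : fac M i ≤ normalizer (line M i : Set G) := by
    apply le_normalizer_of
    intro k hk v hv
    rw [hab k hk v (line_le M i hv), mul_inv_cancel_right]
    exact hv
  obtain ⟨b, hb, hb1, hbt⟩ := exists_fixed_mod hne hn hV2
    (o2_isPGroup (normalizer (line M i : Set G))) (Cfsg.Agent.ZN.o2_le _) (hQ.trans (stab_normalizes M i))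
  intro v hv x hx
  by_cases hvl : v ∈ line M i
  · have h1 := (mem_normalizer_iff.1 (Cfsg.Agent.ZN.o2_le _ hx) v).1 hvl
    exact mul_mem h1 (inv_mem hvl)
  obtain ⟨g, hg0, hg, hgv⟩ := exists_torus' hb hv hb1 hvl
  -- `g b g⁻¹ = v r`
  set r := v⁻¹ * (g * b * g⁻¹) with hr
  have h1 : g⁻¹ * x * g ∈ o2 (normalizer (line M i : Set G)) := by
    have := (mem_normalizer_iff.1 (inv_mem (Cfsg.Agent.ZN.le_normalizer_o2 _ hg)) x).1 hx
    rwa [inv_inv] at this
  have h2 := (mem_normalizer_iff.1 hg _).1 (hbt _ h1)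
  have e1 : g * (g⁻¹ * x * g * b * (g⁻¹ * x * g)⁻¹ * b⁻¹) * g⁻¹ =
      x * (g * b * g⁻¹) * x⁻¹ * (g * b * g⁻¹)⁻¹ := by group
  have e2 : g * b * g⁻¹ = v * r := by rw [hr]; group
  rw [e1, e2] at h2
  -- `[x, v r] = x v x⁻¹ (x r x⁻¹) r⁻¹ v⁻¹`
  have h3 : x * r * x⁻¹ ∈ line M i := (mem_normalizer_iff.1 (Cfsg.Agent.ZN.o2_le _ hx) r).1 hgv
  have h4 : x * r * x⁻¹ * r⁻¹ ∈ line M i := mul_mem h3 (inv_mem hgv)
  have e3 : x * (v * r) * x⁻¹ * (v * r)⁻¹ = x * v * x⁻¹ * v⁻¹ * (v * (x * r * x⁻¹ * r⁻¹) * v⁻¹) := by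
    group
  have e4 : v * (x * r * x⁻¹ * r⁻¹) * v⁻¹ = x * r * x⁻¹ * r⁻¹ := by
    rw [hab v hv _ (line_le M i h4), mul_inv_cancel_right]
  rw [e3, e4] at h2
  exact (mul_mem_cancel_right h4).1 h2

/-- `V_i ≤ KR R`. -/
theorem fac_le_KR : fac M i ≤ KR (line M i) := by
  intro v hv
  refine ⟨?_, fun x hx => ?_⟩
  · rw [mem_centralizer_iff]
    intro r hr
    exact comm M (fac_le M i (line_le M i hr)) (fac_le M i hv)
  · have h1 := h.comm_fac v hv x hx
    have e : v * x * v⁻¹ * x⁻¹ = (x * v * x⁻¹ * v⁻¹)⁻¹ := by group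
    rw [e]
    exact inv_mem h1

theorem KR_le : KR (line M i) ≤ o2 (normalizer (line M i : Set G)) :=
  KR_le_o2 h.c2T (line_ne_bot i) (line_sq M i)

/-- `V_i ≤ O₂(N_G(R))`. -/
theorem fac_le_o2 : fac M i ≤ o2 (normalizer (line M i : Set G)) := h.fac_le_KR.trans h.KR_le

/-- The elements of `O₂(N_G(R))` act on `V_i` as `up b`. -/
theorem o2_up {w : G} (hw : w ∈ o2 (normalizer (line M i : Set G))) :
    ∃ b : F, ∀ v ∈ fac M i, M.e (w * v * w⁻¹) i = ap (up b) (M.e v i) := by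
  refine exists_up (h.le (stab_le M i (h.QT hw))) (fun r hr => ?_) fun v hv => h.comm_fac v hv w hw
  rw [← mem_centralizer_iff.1 (h.o2_cent_line hw) r hr, mul_inv_cancel_right]

/-- `V_j ≤ O₂(N_G(R))` centralises `O₂(N_G(R))`, for `j ≠ i`. -/
theorem other {j : Fin k} (hj : j ≠ i) : fac M j ≤ o2 (normalizer (line M i : Set G)) ∧
    fac M j ≤ centralizer (o2 (normalizer (line M i : Set G)) : Set G) := by
  have h1 := h.cc i j hj
  refine ⟨fun v hv => ?_, h1⟩
  refine MinSimple.Basic.char2_normalizer h.c2T (isPGroup_of_sq (line_sq M i)) (line_ne_bot i)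
    (mem_inf.2 ⟨?_, h1 hv⟩)
  apply centralizer_le_normalizer
  rw [mem_centralizer_iff]
  intro x hx
  exact comm M hx.1.1 hv.1

/-- all of `V` lies in `O₂(N_G(R))` -/
theorem all_le (j : Fin k) : fac M j ≤ o2 (normalizer (line M i : Set G)) := by
  by_cases hj : j = i
  · rw [hj]; exact h.fac_le_o2
  · exact (h.other hj).1

/-- The data of LEMMA NL. -/
theorem cor : NLFree.Cor (line M i) (fac M i) (normalizer (line M i : Set G)) (normalizer (fac M i : Set G)) where
  RA := line_le M i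
  R1 := line_ne_bot i
  pA := isPGroup_of_sq fun x hx => sq M (fac_le M i hx)
  cH := centralizer_le_normalizer _
  HR := le_rfl
  AQ := h.fac_le_o2
  com := fun v hv => (h.fac_le_KR hv).2
  DA := le_rfl
  irr X hX hne := by
    obtain ⟨a, ha, ha1⟩ := (Subgroup.bot_or_exists_ne_one _).resolve_left hne
    intro b hb
    by_cases hb1 : b = 1
    · rw [hb1]; exact one_mem _
    obtain ⟨g, hg, rfl⟩ := exists_grp M ha.1 hb ha1 hb1
    exact (mem_normalizer_iff.1 (hX (grp_normalizes M {i} {i} hg)) a).1 ha.2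

/-- `[V_i, w] = R` for `w ∈ O₂(N_G(R))` not centralising `V_i`. -/
theorem line_le_comm {w : G} (hw : w ∈ o2 (normalizer (line M i : Set G)))
    (hne : ∃ v ∈ fac M i, v * w ≠ w * v) {r : G} (hr : r ∈ line M i) : ∃ v ∈ fac M i, v * w * v⁻¹ * w⁻¹ = r := by
  obtain ⟨b, hb⟩ := h.o2_up hw
  have hwn := stab_normalizes M i (h.QT hw)
  have hb0 : b ≠ 0 := by
    rintro rfl
    obtain ⟨v, hv, hvw⟩ := hne
    apply hvw
    have h1 : w * v * w⁻¹ = v := by
      refine ext_fac M ((mem_normalizer_iff.1 hwn v).1 hv) hv ?_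
      rw [hb v hv, up_zero, NatPair.ap_one]
    calc v * w = w * v * w⁻¹ * w := by rw [h1]
      _ = w * v := by group
  obtain ⟨v, hv, hev⟩ := exists_fac M i ![0, - M.e r i 0 / b]
  have hwv := (mem_normalizer_iff.1 hwn _).1 (inv_mem hv)
  refine ⟨v, hv, ?_⟩
  have e : v * w * v⁻¹ * w⁻¹ = v * (w * v⁻¹ * w⁻¹) := by group
  rw [e]
  refine ext_fac M (mul_mem hv hwv) (line_le M i hr) ?_
  rw [M.mul _ hv.1 _ hwv.1, Pi.add_apply, hb _ (inv_mem hv), e_inv M hv.1, Pi.neg_apply, hev]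
  apply NatPair.ext2
  · rw [Pi.add_apply, NatPair.ap_zero', up_00, up_01]
    simp only [Matrix.cons_val_zero, Matrix.cons_val_one, Pi.neg_apply]
    field_simp
    ring
  · rw [Pi.add_apply, NatPair.ap_one', up_10, up_11, ((mem_line M).1 hr).2]
    simp only [Matrix.cons_val_zero, Matrix.cons_val_one, Pi.neg_apply]
    ring

/-- **Nonlocality.** -/
theorem nonLoc {c : G} (hc : c ∈ normalizer (line M i : Set G))
    (hne : ∃ v ∈ fac M i, ∃ w ∈ fac M i, v * (c * w * c⁻¹) ≠ c * w * c⁻¹ * v) :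
    NonLoc (normalizer (line M i : Set G)) (normalizer (fac M i : Set G)) := by
  refine h.cor.nonLoc h.c2T hc fun r hr => ?_
  obtain ⟨v, hv, w, hw, hvw⟩ := hne
  have hcw : c * w * c⁻¹ ∈ o2 (normalizer (line M i : Set G)) :=
    (mem_normalizer_iff.1 (Cfsg.Agent.ZN.le_normalizer_o2 _ hc) w).1 (h.fac_le_o2 hw)
  obtain ⟨v', hv', e⟩ := h.line_le_comm hcw ⟨v, hv, hvw⟩ hr
  exact subset_closure ⟨v', hv', w, hw, e.symm⟩

/-- **The entry to `BTS`**: `T` a Sylow 2-subgroup of `N_G(V_i)`, `⟨V_i^{N_G(R)}⟩` nonabelian. -/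
theorem bts (hS1 : ¬ 2 ∣ (stab M i).relIndex (normalizer (fac M i : Set G)))
    {c : G} (hc : c ∈ normalizer (line M i : Set G))
    (hne : ∃ v ∈ fac M i, ∃ w ∈ fac M i, v * (c * w * c⁻¹) ≠ c * w * c⁻¹ * v) :
    ∃ N' : NatMod F (fac M i), (∀ x, M.e (N'.e x) i = x) ∧ N'.line ![1, 0] = line M i ∧
      BTwo.BTS (fac M i) (BTwo.pt N') ∧ ∀ j, j ≠ i → fac M j ≤ BTwo.CenX (fac M i) (BTwo.pt N') := by
  have hN := pre_e M i
  set N := pre M i with hNdef
  have hline : N.line ![1, 0] = line M i := pre_line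
  have hQT := h.QT
  have hVQ := h.fac_le_o2
  -- `V_i ^ c ≤ Q`
  have hcQ : NatPair.cj c (fac M i) ≤ o2 (normalizer (line M i : Set G)) := by
    intro x hx
    rw [NatPair.mem_cj] at hx
    have h1 := (mem_normalizer_iff.1 (Cfsg.Agent.ZN.le_normalizer_o2 _ hc) _).1 (hVQ hx)
    have e : c * (c⁻¹ * x * c) * c⁻¹ = x := by group
    rwa [e] at h1
  rcases N.dich_sub h.T2 (stab_normalizes M i) hS1 (Nm_stab h.le M i) with hall | hE
  · -- the natural module
    set N' : NatMod F (fac M i) := N.toNatMod hall with hN'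
    have hNe : ∀ x, M.e (N'.e x) i = x := fun x => hN x
    have hline' : N'.line ![1, 0] = line M i := by
      rw [← hline]
      rfl
    have hmut : NatPair.Mutual (fac M i) (NatPair.cj c (fac M i)) := by
      refine ⟨hcQ.trans (hQT.trans (stab_normalizes M i)), ?_, ?_⟩
      · intro x hx
        rw [NatPair.mem_normalizer_cj]
        apply stab_normalizes M i
        apply hQT
        have := (mem_normalizer_iff.1 (inv_mem (Cfsg.Agent.ZN.le_normalizer_o2 _ hc)) x).1 (hVQ hx)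
        rwa [inv_inv] at this
      · obtain ⟨v, hv, w, hw, hvw⟩ := hne
        refine ⟨v, hv, _, ?_, hvw⟩
        rw [NatPair.mem_cj]
        have e : c⁻¹ * (c * w * c⁻¹) * c = w := by group
        rwa [e]
    have hinf : fac M i ⊓ NatPair.cj c (fac M i) = line M i := by
      obtain ⟨-, w, w', hw, -, hl, -⟩ := NatPair.pair N' (N'.conj c) hmut
      have h1 : line M i ≤ fac M i ⊓ NatPair.cj c (fac M i) := by
        refine le_inf (line_le M i) fun x hx => ?_
        rw [NatPair.mem_cj]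
        apply line_le M i
        have := (mem_normalizer_iff.1 (inv_mem hc) x).1 hx
        rwa [inv_inv] at this
      refine (Subgroup.eq_of_le_of_card_ge h1 ?_).symm
      rw [hl, N'.card_line hw.ne, card_line]
    have a : BTwo.At (fac M i) (N'.line ![1, 0]) c := by
      rw [hline']
      exact ⟨hc, hmut, hinf, hVQ⟩
    have hQ₀ : BTwo.QQ (N'.line ![1, 0]) ≤ normalizer (fac M i : Set G) := by
      rw [hline']
      exact hQT.trans (stab_normalizes M i)
    have hnl : NonLoc (normalizer (fac M i : Set G)) (normalizer (N'.line ![1, 0] : Set G)) := by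
      rw [hline']
      intro U hU h1 h2
      exact h.nonLoc hc hne U hU h2 h1
    have b := BtsOf.bts_of_at N' h.c2T vec_ne a hQ₀ hnl
    refine ⟨N', hNe, hline', b, fun j hj => ?_⟩
    refine BtsOf.le_CenX N' vec_ne b.toBT ?_ ?_
    · rw [hline']
      exact (h.other hj).2
    · intro B
      obtain ⟨l, hl, hlB⟩ := Lns.exists_lift M i B
      refine ⟨l, fun x => ?_, fun a ha => grp_comm M (Set.disjoint_singleton.2 (Ne.symm hj)) hl ha⟩
      refine ext_fac M ((mem_normalizer_iff.1 (grp_normalizes M {i} {i} hl) _).1 (N.e_mem x)) (N.e_mem _) ?_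
      change M.e (l * N.e x * l⁻¹) i = M.e (N.e (ap B x)) i
      rw [hlB _ (N.e_mem x).1, hN, hN]
  · exfalso
    refine ExcFree.exc_false N h.c2T h.T2 hE vec_ne (c := c) ?_ ?_ ?_ ?_ ?_ ?_ ?_ ?_
    · rw [hline]
      exact stab_normalizes_line M h.le i
    · -- `O₂(C_G(r)) ∩ N_G(V_i) ≤ T`
      intro r hr hr1 hrc
      set L : Subgroup G := centralizer ({r} : Set G) ⊓ normalizer (fac M i : Set G) with hL
      have hTL : stab M i ≤ L := le_inf (fun t ht => mem_centralizer_singleton_iff.2 (hrc t ht))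
        (stab_normalizes M i)
      have hd : ¬ 2 ∣ (stab M i).relIndex L := by
        intro hd
        apply hS1
        rw [← relIndex_mul_relIndex _ _ _ hTL (inf_le_right : L ≤ normalizer (fac M i : Set G))]
        exact hd.mul_right _
      refine le_trans (Cfsg.Agent.ZN.le_o2 (inf_le_inf_right _ (Cfsg.Agent.ZN.o2_le _))
        ((o2_isPGroup _).to_le inf_le_left) ?_) (Cfsg.Agent.MinSimple.VModule.o2_le_of_sylow h.T2 hd)
      exact Half.le_normalizer_inf (inf_le_left.trans (Cfsg.Agent.ZN.le_normalizer_o2 _))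
        (inf_le_right.trans le_normalizer)
    · rw [hline]; exact hVQ
    · rw [hline]; exact hQT.trans (stab_normalizes M i)
    · rw [hline]; exact h.o2_cent_line
    · rw [hline]
      intro q hq r hr hqr
      by_contra hcon
      push Not at hcon
      -- a further element of the line
      obtain ⟨w, hw, hw1, hwr⟩ : ∃ w ∈ line M i, w ≠ 1 ∧ w ≠ r := by
        by_contra hcon
        push Not at hcon
        have h1 : (line M i : Set G) ⊆ {1, r} := by
          intro x hx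
          by_cases hx1 : x = 1
          · exact Or.inl hx1
          · exact Or.inr (hcon x hx hx1)
        have h2 := Set.ncard_le_ncard h1 (Set.toFinite _)
        have h3 : ({1, r} : Set G).ncard ≤ 2 := (Set.ncard_insert_le 1 {r}).trans (by rw [Set.ncard_singleton])
        have h4 : (line M i : Set G).ncard = Nat.card F := card_line M i
        have h5 := hE.card
        omega
      obtain ⟨v, hv, hvw⟩ := h.line_le_comm hq hcon hw
      rcases hqr v hv with h1 | h1
      · exact hw1 (hvw.symm.trans h1)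
      · exact hwr (hvw.symm.trans h1)
    · rw [hline]; exact hc
    · rw [hline]
      intro r hr
      obtain ⟨v, hv, w, hw, hvw⟩ := hne
      have hcw : c * w * c⁻¹ ∈ o2 (normalizer (line M i : Set G)) :=
        (mem_normalizer_iff.1 (Cfsg.Agent.ZN.le_normalizer_o2 _ hc) w).1 (hVQ hw)
      obtain ⟨v', hv', e⟩ := h.line_le_comm hcw ⟨v, hv, hvw⟩ hr
      exact ⟨v', hv', w, hw, e⟩

end BOne

/-! ### CASE 1 -/

/-- CASE 1, `q ≥ 4`: `N_S(V_i)` is a Sylow 2-subgroup of `N_G(line M i)`. -/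
structure BFour (M : NatK F (S : Subgroup G) P (zl (S : Subgroup G) P) ⊥ k) (i : Fin k) : Prop where
  c2T : IsCharacteristicTwoType G
  par : IsParS (S : Subgroup G) P
  cc : CC M
  q4 : 4 ≤ Nat.card F
  syl : ¬ 2 ∣ (stab M i).relIndex (normalizer (line M i : Set G))

namespace BFour

variable {M : NatK F (S : Subgroup G) P (zl (S : Subgroup G) P) ⊥ k} {i : Fin k} (h : BFour M i)
include h

theorem le : (S : Subgroup G) ≤ P := h.par.isLoc.le

theorem T2 : IsPGroup 2 (stab M i) := S.isPGroup'.to_le (stab_le M i)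

theorem one : BOne M i where
  c2T := h.c2T
  par := h.par
  cc := h.cc
  QT := MinSimple.VModule.o2_le_of_sylow h.T2 h.syl

/-- A 2-group containing `T` which normalises the line is `T`. -/
theorem le_T {U : Subgroup G} (hU : IsPGroup 2 U) (hTU : stab M i ≤ U)
    (hUR : U ≤ normalizer (line M i : Set G)) : U ≤ stab M i := by
  have h1 := SideOf.card_dvd_of (stab_normalizes_line M h.le i) h.syl hU hUR
  exact (Subgroup.eq_of_le_of_card_ge hTU (Nat.le_of_dvd Nat.card_pos h1)).ge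

/-- The line `line M i` is the only subgroup of order `q` of `V_i` which is normalised by `T`. -/
theorem eq_line {X : Subgroup G} (hX : X ≤ fac M i) (hc : Nat.card X = Nat.card F)
    (hn : stab M i ≤ normalizer (X : Set G)) : X = line M i := by
  by_cases hle : X ≤ line M i
  · exact Subgroup.eq_of_le_of_card_ge hle (by rw [hc, card_line])
  obtain ⟨x, hx, hxl⟩ := Set.not_subset.1 hle
  have hx1 : M.e x i 1 ≠ 0 := fun h0 => hxl ((mem_line M).2 ⟨hX hx, h0⟩)
  refine (Subgroup.eq_of_le_of_card_ge (fun r hr => ?_) (by rw [hc, card_line])).symm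
  obtain ⟨u, hu, hug, h1⟩ := exists_unip M h.le i (M.e r i 0 / M.e x i 1)
  have h2 : u * x * u⁻¹ ∈ X := (mem_normalizer_iff.1 (hn hu) x).1 hx
  have h3 : r = u * x * u⁻¹ * x⁻¹ := by
    refine ext_fac M (line_le M i hr) (mul_mem (hX h2) (inv_mem (hX hx))) ?_
    rw [M.mul _ (hX h2).1 _ (inv_mem (hX hx).1), Pi.add_apply, e_inv M (hX hx).1, Pi.neg_apply,
      h1.1 x (hX hx).1 i, Function.update_self]
    apply NatPair.ext2
    · rw [Pi.add_apply, NatPair.ap_zero', up_00, up_01, Pi.neg_apply]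
      field_simp
      ring
    · rw [Pi.add_apply, NatPair.ap_one', up_10, up_11, Pi.neg_apply, ((mem_line M).1 hr).2]
      ring
  rw [h3]
  exact mul_mem h2 (inv_mem hx)

/-- **`T` is a Sylow 2-subgroup of `N_G(V_i)`.** -/
theorem syl_fac : ¬ 2 ∣ (stab M i).relIndex (normalizer (fac M i : Set G)) := by
  have : Fact (Nat.Prime 2) := ⟨Nat.prime_two⟩
  obtain ⟨Q, hTQ, hQN, hQ2, hQs⟩ := Half.exists_sylow_le h.T2 (stab_normalizes M i)
  have hQT : Q = stab M i := by
    by_contra hne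
    have hlt : stab M i < Q := lt_of_le_of_ne hTQ (Ne.symm hne)
    have hlt' := Lib.GoldschmidtFusion.lt_inf_normalizer hQ2 hlt
    refine hlt'.not_ge (h.le_T (hQ2.to_le inf_le_left) hlt'.le fun t ht => ?_)
    -- `t` normalises `T` and `V_i`, so it normalises the line
    rw [mem_normalizer_iff_cj]
    refine h.eq_line ?_ (by rw [card_cj, card_line]) ?_
    · intro x hx
      rw [mem_cj_iff] at hx
      have h1 := (mem_normalizer_iff.1 (hQN ht.1) _).1 (line_le M i hx)
      have e : t * (t⁻¹ * x * t) * t⁻¹ = x := by group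
      rwa [e] at h1
    · have h1 := cj_mono t (stab_normalizes_line M h.le i)
      rw [cj_normalizer, cj_eq_of_mem_normalizer ht.2] at h1
      exact h1
  rwa [hQT] at hQs

/-- **The entry to `BTS`**, CASE 1. -/
theorem bts {c : G} (hc : c ∈ normalizer (line M i : Set G))
    (hne : ∃ v ∈ fac M i, ∃ w ∈ fac M i, v * (c * w * c⁻¹) ≠ c * w * c⁻¹ * v) :
    ∃ N' : NatMod F (fac M i), (∀ x, M.e (N'.e x) i = x) ∧ N'.line ![1, 0] = line M i ∧
      BTwo.BTS (fac M i) (BTwo.pt N') ∧ ∀ j, j ≠ i → fac M j ≤ BTwo.CenX (fac M i) (BTwo.pt N') :=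
  h.one.bts h.syl_fac hc hne

end BFour

end Cfsg.Agent.Omega.IId.BigFour

end

section


/-!
# II.d, `WrBig`, `q ≥ 4`, CASE 1 on both sides: the mixed case is impossible, any number of factors (helper540)

`mixed_false` : `BFour M i`, `BFour M' i'` on the same line `R`, `[V_i, V_i'] ≠ 1`, `⟨V_i^{N_G(R)}⟩` and
`⟨V_i'^{N_G(R)}⟩` abelian, a further factor `V_j`: contradiction.
-/

set_option autoImplicit false
set_option linter.unusedSectionVars false

namespace Cfsg.Agent.Omega.IId.BigFour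

open Subgroup Cfsg Cfsg.Agent.ZN.ChoiceBase
open Cfsg.Agent.ZN (o2 zc zl)
open Cfsg.Agent.Omega.MinPar Cfsg.Agent.Omega.FFThm
open Cfsg.Agent.Lib.SL2Mat
open Cfsg.Agent.Omega.NatPair (ap NatMod PreMod)
open Cfsg.Agent.Omega.Mix (RMod LL)
open Cfsg.Agent.Omega.IId.FourSide (pre pre_e Nm_stab vec_ne)
open Cfsg.Agent.Omega.IId.M4 (MixedT nmG mem_nmG ind_mem_nmG toRMod toRMod_line LL_comm exists_cj_eq)

universe u

section side

variable {G : Type u} [Group G] [Finite G] {F : Type} [Field F] [Finite F] [CharP F 2]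
  {S : Sylow 2 G} {P : Subgroup G} {k : ℕ}
  {M : NatK F (S : Subgroup G) P (zl (S : Subgroup G) P) ⊥ k} {i : Fin k}

theorem stab_le_nmG (h : (S : Subgroup G) ≤ P) : stab M i ≤ nmG (pre M i) := fun t ht =>
  ⟨stab_normalizes M i ht, Nm_stab h M i t ht, Nm_stab h M i _ (inv_mem ht)⟩

theorem grp_le_nmG (i : Fin k) : grp M {i} ≤ nmG (pre M i) := by
  intro g hg
  obtain ⟨B, hB⟩ := Lns.grp_act hg
  refine ind_mem_nmG (A := B) fun x => ?_
  refine ext_fac M (Lns.grp_conj_fac hg ((pre M i).e_mem x)) ((pre M i).e_mem _) ?_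
  rw [hB _ ((pre M i).e_mem x).1, pre_e, pre_e]

/-- The data of LEMMA NL with `nmG`. -/
theorem BOne.cor_nm (h : BOne M i) :
    NLFree.Cor (line M i) (fac M i) (normalizer (line M i : Set G)) (nmG (pre M i)) where
  RA := line_le M i
  R1 := line_ne_bot i
  pA := h.cor.pA
  cH := centralizer_le_normalizer _
  HR := le_rfl
  AQ := h.fac_le_o2
  com := fun v hv => (h.fac_le_KR hv).2
  DA := fun _ hx => hx.1
  irr X hX hne := by
    obtain ⟨a, ha, ha1⟩ := (Subgroup.bot_or_exists_ne_one _).resolve_left hne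
    intro b hb
    by_cases hb1 : b = 1
    · rw [hb1]; exact one_mem _
    obtain ⟨g, hg, rfl⟩ := exists_grp M ha.1 hb ha1 hb1
    exact (mem_normalizer_iff.1 (hX (grp_le_nmG i hg)) a).1 ha.2

end side

section both

variable {G : Type u} [Group G] [Finite G] {F F' : Type} [Field F] [Finite F] [CharP F 2]
  [Field F'] [Finite F'] [CharP F' 2] {S S' : Sylow 2 G} {P P' : Subgroup G} {k k' : ℕ}
  {M : NatK F (S : Subgroup G) P (zl (S : Subgroup G) P) ⊥ k}
  {M' : NatK F' (S' : Subgroup G) P' (zl (S' : Subgroup G) P') ⊥ k'} {i : Fin k} {i' : Fin k'}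

/-- **The mixed case is impossible** (CASE 1 on both sides). -/
theorem mixed_false (h : BFour M i) (h' : BFour M' i') (hl : line M i = line M' i')
    (hne : ∃ v ∈ fac M i, ∃ w ∈ fac M' i', v * w ≠ w * v)
    (h1 : ∀ g ∈ normalizer (line M i : Set G), ∀ v ∈ fac M i, ∀ w ∈ fac M i,
      v * (g * w * g⁻¹) = g * w * g⁻¹ * v)
    (h2 : ∀ g ∈ normalizer (line M i : Set G), ∀ v ∈ fac M' i', ∀ w ∈ fac M' i',
      v * (g * w * g⁻¹) = g * w * g⁻¹ * v) {j : Fin k} (hj : j ≠ i) : False := by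
  set R := line M i with hRdef
  have hfact : Fact (Nat.Prime 2) := ⟨Nat.prime_two⟩
  -- a common Sylow 2-subgroup
  have hT' : stab M' i' ≤ normalizer (R : Set G) := by
    rw [hl]; exact stab_normalizes_line M' h'.le i'
  have hT : stab M i ≤ normalizer (R : Set G) := stab_normalizes_line M h.le i
  obtain ⟨c, hc, hcT⟩ : ∃ c ∈ normalizer (R : Set G), BTwo.cj c (stab M' i') = stab M i := by
    refine exists_cj_eq hT hT' h.T2 h'.T2 h.syl ?_
    rw [hl]; exact h'.syl
  have hcR : BTwo.cj c R = R := BTwo.cj_eq_self_iff.2 hc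
  let M₁ := toRMod (pre M i)
  let M₂ : RMod F' (BTwo.cj c (fac M' i')) (BTwo.cj c (nmG (pre M' i'))) := (toRMod (pre M' i')).conj c
  have hM₂ : ∀ w, M₂.line w = BTwo.cj c ((toRMod (pre M' i')).line w) := fun w =>
    (toRMod (pre M' i')).conj_line c w
  have eLL : LL (BTwo.cj c (fac M' i')) R R = LL (fac M' i') R R := by
    have e1 := Mix.LL_conj c (fac M' i') R R
    rwa [hcR] at e1
  have cor1 := h.one.cor_nm
  have cor2 : NLFree.Cor R (fac M' i') (normalizer (R : Set G)) (nmG (pre M' i')) := by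
    have := h'.one.cor_nm
    rwa [← hl] at this
  have m : MixedT M₁ M₂ R (stab M i) := by
    refine ⟨⟨![1, 0], vec_ne, ?_⟩, ⟨![1, 0], vec_ne, ?_⟩, h.T2, stab_le_nmG h.le, ?_, hT, h.syl, ?_,
      LL_comm h1, ?_, ?_, ?_⟩
    · rw [toRMod_line, pre_line]
    · rw [hM₂, toRMod_line, pre_line, ← hl, hcR]
    · rw [← hcT]
      exact BTwo.cj_mono (stab_le_nmG h'.le)
    · exact fun K hK hK1 => Mix.char2_normalizer h.c2T hK hK1
    · rw [eLL]
      exact LL_comm h2
    · rw [eLL]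
      obtain ⟨v, hv, w, hw, hvw⟩ := hne
      exact ⟨v, Mix.V_le_LL _ _ hv, w, Mix.V_le_LL _ _ hw, hvw⟩
    · intro K hK k1 k2 k3
      have hc' : c ∈ normalizer (K : Set G) := k3 hc
      have k4 : nmG (pre M' i') ≤ normalizer (K : Set G) := by
        intro x hx
        have h3 := k2 (BTwo.conj_mem_cj (g := c) hx)
        have h4 := mul_mem (mul_mem (inv_mem hc') h3) hc'
        have e : c⁻¹ * (c * x * c⁻¹) * c = x := by group
        rwa [e] at h4
      refine NLFree.nonLoc_mixed h.c2T cor1 cor2 (fun r hr => ?_) hK k3 k1 k4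
      obtain ⟨v, hv, w, hw, hvw⟩ := hne
      have hwQ : w ∈ o2 (normalizer (line M i : Set G)) := by
        have := h'.one.fac_le_o2 hw
        rwa [← hl] at this
      obtain ⟨v', hv', e⟩ := h.one.line_le_comm hwQ ⟨v, hv, hvw⟩ hr
      exact subset_closure ⟨v', hv', w, hw, e.symm⟩
  have h5 := m.cen_le h.q4
  have h6 : fac M j ≤ R := by
    refine le_trans ?_ h5
    exact (h.one.other hj).2
  obtain ⟨x, hx, hx0⟩ := exists_fac M j ![1, 0]
  have hx1 : x = 1 := by
    have h7 : x ∈ fac M i ⊓ fac M j := ⟨line_le M i (h6 hx), hx⟩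
    rwa [fac_inf M (Ne.symm hj), mem_bot] at h7
  rw [hx1, e_one] at hx0
  have := congrFun hx0 0
  simp at this

end both

end Cfsg.Agent.Omega.IId.BigFour

end

section


/-!
# `O₂(N_G(R)) ≤ N_S(V_i)` without a Sylow hypothesis, any `q` (helper540)

#15785 (a) = (7) of THEOREM C with lines in place of elements: if `O₂(N_G(L))` centralises `V l` for all lines `L` of
`V i`, `i ≠ l`, and the Sylow 2-subgroup `S` permutes the `V i` transitively (and their lines), then `O₂(N_G(R)) ≤ S`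
normalises all `V l`, for a line `R` of `V i₀` normalised by `N_S(V i₀)`.
-/

set_option autoImplicit false

namespace Cfsg.Agent.Omega.IId.BigFour.Qt

open Subgroup Cfsg Cfsg.Agent.ZN Cfsg.Agent.MinSimple.Geo
open Cfsg.Agent.Omega.ThmC.TwoSeven (iSup_le_normalizer isPGroup_iSup exists_cj_le sylow_eq_of_le)

universe u

variable {G : Type u} [Group G] {ι : Type*}

/-- `W L = O₂(N_G(L))` -/
def W (L : Subgroup G) : Subgroup G := o2 (normalizer (L : Set G))

/-- `D i = ⟨W L : L a line of V i⟩` -/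
def D (Λ : ι → Set (Subgroup G)) (i : ι) : Subgroup G := ⨆ L : {L : Subgroup G // L ∈ Λ i}, W L.1

/-- `DD = ⟨D i⟩` -/
def DD (Λ : ι → Set (Subgroup G)) : Subgroup G := ⨆ i, D Λ i

theorem cj_W (g : G) (L : Subgroup G) : cj g (W L) = W (cj g L) := by
  rw [W, W, cj_o2, cj_normalizer]

theorem le_D {Λ : ι → Set (Subgroup G)} {i : ι} {L : Subgroup G} (h : L ∈ Λ i) : W L ≤ D Λ i :=
  le_iSup (fun L : {L : Subgroup G // L ∈ Λ i} => W L.1) ⟨L, h⟩

theorem D_le {Λ : ι → Set (Subgroup G)} {i : ι} {X : Subgroup G} (h : ∀ L ∈ Λ i, W L ≤ X) : D Λ i ≤ X :=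
  iSup_le fun L => h L.1 L.2

theorem cj_D {Λ : ι → Set (Subgroup G)} {i j : ι} {s : G} (h : ∀ L, L ∈ Λ i ↔ cj s L ∈ Λ j) :
    cj s (D Λ i) = D Λ j := by
  apply le_antisymm
  · rw [cj_le_iff]
    refine D_le fun L hL => ?_
    rw [← cj_le_iff, cj_W]
    exact le_D ((h L).1 hL)
  · refine D_le fun L hL => ?_
    have h1 : cj s⁻¹ L ∈ Λ i := by
      rw [h, cj_cj, mul_inv_cancel, cj_one]
      exact hL
    have h2 := le_D h1
    rwa [← cj_W, cj_le_iff, inv_inv] at h2

section main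

set_option linter.unusedSectionVars false

variable [Finite G] {V : ι → Subgroup G} {Λ : ι → Set (Subgroup G)} (S : Sylow 2 G)
  (hle : ∀ i, ∀ L ∈ Λ i, L ≤ V i)
  (hW : ∀ i l, l ≠ i → ∀ L ∈ Λ i, W L ≤ centralizer (V l : Set G))
  (hS : ∀ s ∈ S, ∀ i, ∃ j, cj s (V i) = V j ∧ ∀ L, L ∈ Λ i ↔ cj s L ∈ Λ j)
  (htr : ∀ i j, ∃ s ∈ S, cj s (V i) = V j ∧ ∀ L, L ∈ Λ i ↔ cj s L ∈ Λ j)

theorem W_two (L : Subgroup G) : IsPGroup 2 (W L) := isPGroup_o2 _

include hW in
theorem D_le_centralizer {i l : ι} (h : l ≠ i) : D Λ i ≤ centralizer (V l : Set G) :=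
  D_le fun L hL => hW i l h L hL

include hle hW in
theorem D_le_normalizer_W {i l : ι} (h : l ≠ i) {L : Subgroup G} (hL : L ∈ Λ l) :
    D Λ i ≤ normalizer (W L : Set G) := by
  have h1 : D Λ i ≤ normalizer (L : Set G) :=
    ((D_le_centralizer hW h).trans (centralizer_le (hle l L hL))).trans (centralizer_le_normalizer _)
  exact h1.trans (le_normalizer_o2 _)

include hle hW in
theorem D_le_normalizer_D (i l : ι) : D Λ i ≤ normalizer (D Λ l : Set G) := by
  by_cases h1 : l = i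
  · subst h1; exact le_normalizer
  exact iSup_le_normalizer _ _ fun L => D_le_normalizer_W hle hW h1 L.2

include hle hW in
theorem two_of_eq {i l : ι} (h1 : l ≠ i) (h : D Λ l = D Λ i) : IsPGroup 2 (D Λ l) := by
  refine isPGroup_iSup _ (fun v => W_two _) fun v w => ?_
  refine (le_D v.2).trans ?_
  rw [h]
  exact D_le_normalizer_W hle hW h1 w.2

include hle hW in
theorem DD_le_normalizer (l : ι) : DD Λ ≤ normalizer (D Λ l : Set G) :=
  iSup_le fun i => D_le_normalizer_D hle hW i l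

include hS in
theorem S_le_normalizer_DD : (S : Subgroup G) ≤ normalizer (DD Λ : Set G) := by
  have key : ∀ s ∈ S, cj s (DD Λ) ≤ DD Λ := by
    intro s hs
    rw [cj_le_iff]
    refine iSup_le fun i => ?_
    obtain ⟨j, -, h⟩ := hS s hs i
    rw [← cj_le_iff, cj_D h]
    exact le_iSup (D Λ) j
  intro s hs
  rw [mem_normalizer_iff_cj]
  refine le_antisymm (key s hs) ?_
  have := key s⁻¹ (inv_mem hs)
  rwa [cj_le_iff, inv_inv] at this

include hle hW hS htr in
/-- **(7) for lines.** -/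
theorem seven {i₀ : ι} {R : Subgroup G} (hR : R ∈ Λ i₀)
    (hT : ∀ s ∈ S, cj s (V i₀) = V i₀ → s ∈ normalizer (R : Set G)) :
    W R ≤ (S : Subgroup G) ∧ ∀ l, W R ≤ normalizer (V l : Set G) := by
  have : Fact (Nat.Prime 2) := ⟨Nat.prime_two⟩
  have hcentN : ∀ l, l ≠ i₀ → W R ≤ normalizer (V l : Set G) := fun l hl =>
    (hW i₀ l hl R hR).trans (Subgroup.centralizer_le_normalizer _)
  by_cases hd : ∀ j l, D Λ j = D Λ l → j = l
  swap
  · push Not at hd
    obtain ⟨j, l, hj, h1⟩ := hd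
    have h3 := two_of_eq hle hW h1 hj
    have h4 : ∀ l, IsPGroup 2 (D Λ l) := by
      intro l
      obtain ⟨s, hs, e1, e2⟩ := htr j l
      rw [← cj_D e2]
      exact h3.map _
    have h5 : IsPGroup 2 (DD Λ) := isPGroup_iSup _ h4 fun i l => D_le_normalizer_D hle hW i l
    have h6 : IsPGroup 2 ((S : Subgroup G) ⊔ DD Λ : Subgroup G) :=
      IsPGroup.to_sup_of_normal_right' S.isPGroup' h5 (S_le_normalizer_DD S hS)
    have h7 : DD Λ ≤ (S : Subgroup G) := by
      have := sylow_eq_of_le S h6 le_sup_left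
      exact le_sup_right.trans this.le
    have h8 : W R ≤ (S : Subgroup G) := ((le_D hR).trans (le_iSup (D Λ) i₀)).trans h7
    refine ⟨h8, fun m => ?_⟩
    by_cases hm : m = i₀
    · subst hm
      intro s hs
      rw [mem_normalizer_iff_cj]
      obtain ⟨n, hn, -⟩ := hS s (h8 hs) m
      by_cases hnm : n = m
      · rw [hnm] at hn
        exact hn
      · have h9 : cj s (V n) = V n := mem_normalizer_iff_cj.mp (hcentN n hnm hs)
        have h10 : V m = V n := by
          rw [← cj_inv_cj (g := s) (H := V m), hn]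
          calc cj s⁻¹ (V n) = cj s⁻¹ (cj s (V n)) := by rw [h9]
            _ = V n := cj_inv_cj ..
        rw [hn, ← h10]
    · exact hcentN m hm
  -- `M := S DD`, `N` the kernel of `M` on the `D`'s
  set N : Subgroup G := ⨅ i, normalizer (D Λ i : Set G) with hN
  have hmN : ∀ {g}, g ∈ N ↔ ∀ i, cj g (D Λ i) = D Λ i := by
    intro g
    rw [hN, mem_iInf]
    exact forall_congr' fun i => mem_normalizer_iff_cj
  have hDN : DD Λ ≤ N := le_iInf fun l => DD_le_normalizer hle hW l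
  set M : Subgroup G := (S : Subgroup G) ⊔ DD Λ with hM
  have hSM : (S : Subgroup G) ≤ M := le_sup_left
  have hDM : DD Λ ≤ M := le_sup_right
  have hMN : M ≤ normalizer (N : Set G) := by
    refine sup_le ?_ (hDN.trans le_normalizer)
    have key : ∀ s ∈ S, cj s N ≤ N := by
      intro s hs g hg
      rw [mem_cj, hmN] at hg
      rw [hmN]
      intro i
      obtain ⟨j, -, e⟩ := hS _ (inv_mem hs) i
      have h := cj_D e
      have h1 := hg j
      rw [← h, cj_cj] at h1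
      have h2 := congrArg (cj s) h1
      rw [cj_cj, cj_cj, mul_inv_cancel, cj_one] at h2
      have e : s * (s⁻¹ * g * s * s⁻¹) = g := by group
      rwa [e] at h2
    intro s hs
    rw [mem_normalizer_iff_cj]
    refine le_antisymm (key s hs) ?_
    have := key s⁻¹ (inv_mem hs)
    rwa [cj_le_iff, inv_inv] at this
  have hWK : W R ≤ M ⊓ N := ((le_D hR).trans (le_iSup (D Λ) i₀)).trans (le_inf hDM hDN)
  set T : Subgroup G := (S : Subgroup G) ⊓ N with hTd
  have hTV : ∀ s ∈ T, ∀ l, cj s (V l) = V l := by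
    intro s hs l
    obtain ⟨j, e1, e⟩ := hS s (mem_inf.1 hs).1 l
    have e2 := cj_D e
    rw [hmN.1 (mem_inf.1 hs).2 l] at e2
    rw [hd j l e2.symm] at e1
    exact e1
  have hTz : T ≤ normalizer (R : Set G) := fun s hs => hT s (mem_inf.1 hs).1 (hTV s hs i₀)
  have hTW : T ≤ normalizer (W R : Set G) := hTz.trans (le_normalizer_o2 _)
  have hT2 : IsPGroup 2 T := S.isPGroup'.to_le inf_le_left
  have h2 : IsPGroup 2 (T ⊔ W R : Subgroup G) := IsPGroup.to_sup_of_normal_right' hT2 (W_two R) hTW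
  have hTK : T ⊔ W R ≤ M ⊓ N := sup_le (le_inf (inf_le_left.trans hSM) inf_le_right) hWK
  have h3 : Nat.card (T ⊔ W R : Subgroup G) ≤ Nat.card T := by
    obtain ⟨c, hc, hc'⟩ := exists_cj_le S hSM h2 (hTK.trans inf_le_left)
    rw [← card_cj c]
    refine card_le_of_le (le_inf hc' ?_)
    have := cj_mono (g := c) (hTK.trans inf_le_right)
    rwa [mem_normalizer_iff_cj.mp (hMN hc)] at this
  have h4 : T = T ⊔ W R := eq_of_le_of_card_ge le_sup_left h3
  have h5 : W R ≤ T := by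
    rw [h4]
    exact le_sup_right
  exact ⟨h5.trans inf_le_left, fun l s hs => mem_normalizer_iff_cj.mpr (hTV s (h5 hs) l)⟩

end main

section inst

open Cfsg.Agent.Omega.MinPar Cfsg.Agent.Omega.FFThm Cfsg.Agent.Omega.Frame

variable [Finite G] {F : Type} [Field F] [Finite F] [CharP F 2] {S : Sylow 2 G} {P : Subgroup G} {k : ℕ}
  (M : NatK F (S : Subgroup G) P (zl (S : Subgroup G) P) ⊥ k)

/-- the lines of `fac M i`: the conjugates of the `line M j` under `P` -/
def lns (i : Fin k) : Set (Subgroup G) := {L | L ≤ fac M i ∧ ∃ g ∈ P, ∃ j, L = cj g (line M j)}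

theorem line_mem (i : Fin k) : line M i ∈ lns M i :=
  ⟨line_le M i, 1, one_mem _, i, by rw [cj_one]⟩

theorem mem_lns_iff {g : G} (hg : g ∈ P) {i j : Fin k} (h : cj g (fac M i) = fac M j) (L : Subgroup G) :
    L ∈ lns M i ↔ cj g L ∈ lns M j := by
  constructor
  · rintro ⟨h1, x, hx, l, rfl⟩
    refine ⟨?_, g * x, mul_mem hg hx, l, ?_⟩
    · rw [← h]
      exact cj_mono h1
    · rw [cj_cj]
  · rintro ⟨h1, x, hx, l, h2⟩
    refine ⟨?_, g⁻¹ * x, mul_mem (inv_mem hg) hx, l, ?_⟩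
    · rw [← h] at h1
      have := cj_mono (g := g⁻¹) h1
      rwa [cj_inv_cj, cj_inv_cj] at this
    · rw [← cj_cj, ← h2, cj_inv_cj]

theorem cjfac {g : G} (hg : g ∈ P) (i : Fin k) : cj g (fac M i) = fac M (sg M hg i) := conj_fac M hg i

variable {M}

/-- a line of `fac M i` is a conjugate of `line M j` by an element mapping `fac M j` to `fac M i` -/
theorem lns_eq {i : Fin k} {L : Subgroup G} (hL : L ∈ lns M i) :
    ∃ g ∈ P, ∃ j, L = cj g (line M j) ∧ cj g (fac M j) = fac M i := by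
  obtain ⟨h1, g, hg, j, rfl⟩ := hL
  refine ⟨g, hg, j, rfl, ?_⟩
  rw [cjfac M hg]
  congr 1
  by_contra hne
  have h2 : cj g (line M j) ≤ fac M i ⊓ fac M (sg M hg j) := by
    refine le_inf h1 ?_
    rw [← cjfac M hg]
    exact cj_mono (line_le M j)
  rw [fac_inf M (Ne.symm hne), le_bot_iff] at h2
  have h3 : line M j = ⊥ := by
    rw [← cj_inv_cj (g := g) (H := line M j), h2]
    exact Subgroup.map_bot _
  exact line_ne_bot j h3

/-- THEOREM C for all lines. -/
theorem cc_lns (hC : CC M) {i l : Fin k} (hl : l ≠ i) {L : Subgroup G} (hL : L ∈ lns M i) :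
    W L ≤ centralizer (fac M l : Set G) := by
  obtain ⟨g, hg, j, rfl, hj⟩ := lns_eq hL
  have h0 : cj g (fac M (sg M (inv_mem hg) l)) = fac M l := by
    rw [← cjfac M (inv_mem hg), cj_cj, mul_inv_cancel, cj_one]
  have h1 : sg M (inv_mem hg) l ≠ j := by
    intro e
    rw [e] at h0
    exact hl (fac_inj M (h0.symm.trans hj))
  have h2 := hC j _ h1
  rw [← cj_W, cj_le_iff]
  intro w hw
  rw [mem_cj, mem_centralizer_iff]
  intro x hx
  have h3 : g⁻¹ * x * g ∈ fac M (sg M (inv_mem hg) l) := by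
    rw [← h0, SetLike.mem_coe] at hx
    rwa [mem_cj] at hx
  have h4 := mem_centralizer_iff.1 (h2 h3) w hw
  have e1 : (g⁻¹)⁻¹ = g := inv_inv g
  rw [e1]
  calc x * (g * w * g⁻¹) = g * ((g⁻¹ * x * g) * w) * g⁻¹ := by group
    _ = g * (w * (g⁻¹ * x * g)) * g⁻¹ := by rw [h4]
    _ = g * w * g⁻¹ * x := by group

/-- **`O₂(N_G(R)) ≤ N_S(V_i)`, and it normalises all factors**, from THEOREM C. -/
theorem qt (hSP : (S : Subgroup G) ≤ P) (hC : CC M) (i : Fin k) :
    o2 (normalizer (line M i : Set G)) ≤ stab M i ∧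
      ∀ l, o2 (normalizer (line M i : Set G)) ≤ normalizer (fac M l : Set G) := by
  obtain ⟨h1, h2⟩ := seven (V := fac M) (Λ := lns M) S (fun i L hL => hL.1)
    (fun i l hl L hL => cc_lns hC hl hL)
    (fun s hs i => ⟨_, conj_fac M (hSP hs) i, mem_lns_iff M (hSP hs) (conj_fac M (hSP hs) i)⟩)
    (fun i j => by
      obtain ⟨s, hs, e⟩ := exists_trans M hSP i j
      exact ⟨s, hs, e, mem_lns_iff M (hSP hs) e⟩) (line_mem M i)
    (fun s hs e => stab_normalizes_line M hSP i ⟨hs, mem_normalizer_iff_cj.2 e⟩)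
  exact ⟨le_inf h1 (h2 i), h2⟩

end inst

end Cfsg.Agent.Omega.IId.BigFour.Qt

namespace Cfsg.Agent.Omega.IId.BigFour

open Subgroup Cfsg
open Cfsg.Agent.ZN (zl o2)
open Cfsg.Agent.Omega.MinPar Cfsg.Agent.Omega.FFThm Cfsg.Agent.Omega.Frame

universe u

variable {G : Type u} [Group G] [Finite G] {F : Type} [Field F] [Finite F] [CharP F 2]
  {S : Sylow 2 G} {P : Subgroup G} {k : ℕ}
  {M : NatK F (S : Subgroup G) P (zl (S : Subgroup G) P) ⊥ k}

/-- **`BOne` without a Sylow hypothesis.** -/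
theorem BOne.of (hc : IsCharacteristicTwoType G) (hP : IsParS (S : Subgroup G) P) (hC : CC M) (i : Fin k) :
    BOne M i where
  c2T := hc
  par := hP
  cc := hC
  QT := (Qt.qt hP.isLoc.le hC i).1

end Cfsg.Agent.Omega.IId.BigFour

end

section


/-!
# II.d, `BigFour.CaseTwo`: tools (helper540, text #19731 of helper873)

* `comm_line` : an element of `N_S(V_l)` centralising the line acts on `V_l` as a root element;
* `mem_stab_of_fix` : an element of `S` centralising an element `≠ 1` of the line of `V_l` normalises `V_l`;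
* `lemK` : LEMMA K, abstract;
* `syl_one` : `k = 1`: `N_S(V_i) = S` is a Sylow 2-subgroup of `N_G(R)`.
-/

set_option autoImplicit false
set_option linter.unusedSectionVars false

namespace Cfsg.Agent.Omega.IId.BigFour.SylTools

open Subgroup Cfsg Cfsg.Agent.ZN.ChoiceBase
open Cfsg.Agent.ZN (o2 zc zl)
open Cfsg.Agent.Omega.MinPar Cfsg.Agent.Omega.FFThm Cfsg.Agent.Omega.Frame
open Cfsg.Agent.Omega.NatPair (ap NatMod PreMod)
open Cfsg.Agent.Omega.IId.FourSide
open Cfsg.Agent.Omega.Mix (RMod)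
open Cfsg.Agent.Omega.IId.M4 (toRMod toRMod_line nmG)
open scoped commutatorElement

universe u

section tools

variable {G : Type u} [Group G] [Finite G] {F : Type} [Field F] [Finite F] [CharP F 2] {S : Sylow 2 G}
  {P : Subgroup G} {k : ℕ} {M : NatK F (S : Subgroup G) P (zl (S : Subgroup G) P) ⊥ k}

/-- **(f1)** -/
theorem comm_line (hSP : (S : Subgroup G) ≤ P) {l : Fin k} {x : G} (hx : x ∈ stab M l)
    (hc : ∀ r ∈ line M l, x * r = r * x) : ∀ v ∈ fac M l, x * v * x⁻¹ * v⁻¹ ∈ line M l := by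
  set N := pre M l with hN
  set R := toRMod N with hR
  have hxN : x ∈ nmG N := stab_le_nmG hSP hx
  obtain ⟨s, hs⟩ := R.exists_semi hxN
  have hline : ∀ c : F, R.e (c • (![1, 0] : Fin 2 → F)) ∈ line M l := by
    intro c
    rw [← pre_line, ← hN, ← toRMod_line N]
    exact ⟨c, rfl⟩
  have hfix : ∀ c : F, R.act x (c • (![1, 0] : Fin 2 → F)) = c • ![1, 0] := by
    intro c
    apply R.e_inj
    rw [R.e_act hxN, hc _ (hline c), mul_inv_cancel_right]
  have hw : (![1, 0] : Fin 2 → F) ≠ 0 := by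
    intro h
    have := congrFun h 0
    simp at this
  have hs1 : ∀ c, s c = c := by
    intro c
    have h1 := hs c ![1, 0]
    have h2 : R.act x ![1, 0] = ![1, 0] := by
      have := hfix 1
      rwa [one_smul] at this
    rw [hfix, h2] at h1
    exact (smul_left_injective F hw h1).symm
  -- the action on `V/R`
  set b : F := R.act x ![0, 1] 1 with hb
  have hact : ∀ y : Fin 2 → F, R.act x y 1 = b * y 1 := by
    intro y
    have e : y = y 0 • (![1, 0] : Fin 2 → F) + y 1 • ![0, 1] := by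
      apply NatPair.ext2 <;> simp
    have h1 : R.act x y = y 0 • (![1, 0] : Fin 2 → F) + y 1 • R.act x ![0, 1] := by
      conv_lhs => rw [e]
      rw [R.act_add hxN, hfix, hs, hs1]
    rw [h1, Pi.add_apply, Pi.smul_apply, Pi.smul_apply, smul_eq_mul, smul_eq_mul, ← hb]
    simp [mul_comm]
  have hcon : ∀ y : Fin 2 → F, M.e (x * R.e y * x⁻¹) l = R.act x y := by
    intro y
    rw [← R.e_act hxN]
    exact pre_e M l _
  have hxn : x ∈ normalizer (fac M l : Set G) := stab_normalizes M l hx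
  have hmem : ∀ v ∈ fac M l, x * v * x⁻¹ * v⁻¹ ∈ line M l ↔ b * M.e v l 1 = M.e v l 1 := by
    intro v hv
    have hv' := (mem_normalizer_iff.1 hxn v).1 hv
    obtain ⟨y, rfl⟩ := (R.mem_iff v).1 hv
    have e1 : M.e (R.e y) l = y := pre_e M l y
    rw [mem_line]
    have e2 : M.e (x * R.e y * x⁻¹ * (R.e y)⁻¹) l 1 = b * y 1 - y 1 := by
      rw [M.mul _ hv'.1 _ (inv_mem hv.1), Pi.add_apply, Pi.add_apply, hcon, hact, e_inv M hv.1, Pi.neg_apply,
        Pi.neg_apply, e1]
      ring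
    rw [e2, e1]
    constructor
    · rintro ⟨-, h⟩
      exact sub_eq_zero.1 h
    · intro h
      exact ⟨mul_mem hv' (inv_mem hv), sub_eq_zero.2 h⟩
  -- a fixed point on `V/R`
  have hV2 : IsPGroup 2 (fac M l) := SideOf.isPGroup_of_sq fun x hx => sq M (fac_le M l hx)
  have hne : ¬ fac M l ≤ line M l := by
    intro h
    obtain ⟨v, hv, hev⟩ := exists_fac M l ![0, 1]
    have h1 := ((mem_line M).1 (h hv)).2
    rw [hev] at h1
    simp at h1
  have hn : fac M l ≤ normalizer (line M l : Set G) := by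
    apply Two.le_normalizer_of
    intro k hk v hv
    rw [comm M (fac_le M l hk) (fac_le M l (line_le M l hv)), mul_inv_cancel_right]
    exact hv
  obtain ⟨v, hv, hv1, hvt⟩ := SideOf.exists_fixed_mod hne hn hV2 (S.isPGroup'.to_le (stab_le M l))
    (stab_normalizes_line M hSP l) (stab_normalizes M l)
  have h1 := (hmem v hv).1 (hvt x hx)
  have h2 : M.e v l 1 ≠ 0 := fun h0 => hv1 ((mem_line M).2 ⟨hv, h0⟩)
  have hb1 : b = 1 := by
    have : b * M.e v l 1 = 1 * M.e v l 1 := by rw [h1, one_mul]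
    exact mul_right_cancel₀ h2 this
  intro v hv
  rw [hmem v hv, hb1, one_mul]

/-- **(f2)** -/
theorem mem_stab_of_fix (hSP : (S : Subgroup G) ≤ P) {l : Fin k} {x r : G} (hx : x ∈ (S : Subgroup G))
    (hr : r ∈ fac M l) (hr1 : r ≠ 1) (hc : x * r = r * x) : x ∈ stab M l := by
  rw [mem_stab]
  refine ⟨hx, ?_⟩
  have h1 := conj_fac M (hSP hx) l
  rw [h1]
  congr 1
  by_contra hne
  have h2 : r ∈ fac M l ⊓ fac M (sg M (hSP hx) l) := by
    refine ⟨hr, ?_⟩
    rw [← h1]
    refine ⟨r, hr, ?_⟩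
    change x * r * x⁻¹ = r
    rw [hc, mul_inv_cancel_right]
  rw [fac_inf M (Ne.symm hne), mem_bot] at h2
  exact hr1 h2

/-- **(f2')** an element of `S` centralising `r`, `1 ≠ r ∈ R_l`, for every `l`, normalises all factors -/
theorem le_stab_of_fix (hSP : (S : Subgroup G) ≤ P) {X : Subgroup G} (hX : X ≤ (S : Subgroup G)) {l : Fin k}
    (hc : ∀ r ∈ line M l, ∀ x ∈ X, x * r = r * x) : X ≤ stab M l := by
  obtain ⟨r, hr, hr1⟩ := exists_line M l
  exact fun x hx => mem_stab_of_fix hSP (hX hx) (line_le M l hr) hr1 (hc r hr x hx)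

/-- **(f4)** `k = 1` -/
theorem syl_one (hSP : (S : Subgroup G) ≤ P) (hk : k = 1) (i : Fin k) :
    stab M i = (S : Subgroup G) ∧ ¬ 2 ∣ (stab M i).relIndex (normalizer (line M i : Set G)) := by
  subst hk
  have h1 : stab M i = (S : Subgroup G) := by
    refine le_antisymm (stab_le M i) fun x hx => ?_
    rw [mem_stab]
    refine ⟨hx, ?_⟩
    rw [conj_fac M (hSP hx) i]
    congr 1
    exact Subsingleton.elim _ _
  refine ⟨h1, ?_⟩
  have h2 := stab_normalizes_line M hSP i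
  rw [h1] at h2 ⊢
  exact MinSimple.Basic.not_dvd_relIndex S h2

end tools

/-! ### LEMMA K -/

section lemK

variable {G : Type u} [Group G] [Finite G]

/-- **LEMMA K (#19731).** -/
theorem lemK {Q U Kr R Y A : Subgroup G} {z : G}
    (hA : ∀ y ∈ Y, ∀ g ∈ Q, y * g * y⁻¹ * g⁻¹ ∈ A)
    (hA' : A ≤ closure {a | ∃ y ∈ Y, ∃ g ∈ Q, y * g * y⁻¹ * g⁻¹ = a})
    (hmin : ∀ u ∈ Q, (∃ y ∈ Y, y * u ≠ u * y) → A ≤ closure {a | ∃ y ∈ Y, y * u * y⁻¹ * u⁻¹ = a})
    (hUQ : U ≤ Q) (hYU : ∀ y ∈ Y, ∀ u ∈ U, y * u * y⁻¹ * u⁻¹ ∈ U)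
    (hUK : ∀ u ∈ U, ∀ w ∈ Kr, w * u = u * w)
    (hRQ : ∀ r ∈ R, ∀ g ∈ Q, r * g = g * r)
    (hYw : (∀ y ∈ Y, ∀ u ∈ U, y * u = u * y) → ∀ y ∈ Y, ∀ w ∈ Kr, ∃ r ∈ R, w * y * w⁻¹ = y * r)
    (hQw : ∀ w ∈ Kr, ∀ g ∈ Q, w * g * w⁻¹ ∈ Q)
    (hz : z ∈ A) (hroot : z ∉ R → ∀ r ∈ R, ∃ w ∈ Kr, w * z * w⁻¹ = z * r)
    (hcard : Nat.card A ≤ Nat.card R) (hR1 : R ≠ ⊥) : z ∈ R := by
  by_contra hzR
  have hro := hroot hzR
  by_cases hmv : ∃ u ∈ U, ∃ y ∈ Y, y * u ≠ u * y
  · obtain ⟨u, hu, hy⟩ := hmv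
    have h1 : A ≤ U := by
      refine (hmin u (hUQ hu) hy).trans ?_
      rw [closure_le]
      rintro _ ⟨y, hy, rfl⟩
      exact hYU y hy u hu
    obtain ⟨r, hr, hr1⟩ := (Subgroup.bot_or_exists_ne_one R).resolve_left hR1
    obtain ⟨w, hw, hwz⟩ := hro r hr
    rw [hUK z (h1 hz) w hw, mul_inv_cancel_right] at hwz
    exact hr1 (mul_eq_left.1 hwz.symm)
  · push Not at hmv
    have hY := hYw fun y hy u hu => hmv u hu y hy
    have hinv : ∀ w ∈ Kr, ∀ a ∈ A, w * a * w⁻¹ ∈ A := by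
      intro w hw a ha
      have h1 : A ≤ A.comap (MulAut.conj w).toMonoidHom := by
        refine hA'.trans ?_
        rw [closure_le]
        rintro _ ⟨y, hy, g, hg, rfl⟩
        obtain ⟨r, hr, hwy⟩ := hY y hy w hw
        have hg' := hQw w hw g hg
        change w * (y * g * y⁻¹ * g⁻¹) * w⁻¹ ∈ A
        have e1 : w * (y * g * y⁻¹ * g⁻¹) * w⁻¹ =
            (w * y * w⁻¹) * (w * g * w⁻¹) * (w * y * w⁻¹)⁻¹ * (w * g * w⁻¹)⁻¹ := by group
        have e2 : y * r * (w * g * w⁻¹) * (y * r)⁻¹ * (w * g * w⁻¹)⁻¹ =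
            y * (w * g * w⁻¹) * y⁻¹ * (w * g * w⁻¹)⁻¹ := by
          have h2 := hRQ r hr _ hg'
          calc y * r * (w * g * w⁻¹) * (y * r)⁻¹ * (w * g * w⁻¹)⁻¹ =
              y * (r * (w * g * w⁻¹)) * r⁻¹ * y⁻¹ * (w * g * w⁻¹)⁻¹ := by group
            _ = y * (w * g * w⁻¹) * y⁻¹ * (w * g * w⁻¹)⁻¹ := by rw [h2]; group
        rw [e1, hwy, e2]
        exact hA y hy _ hg'
      exact h1 ha
    have h1 : R ≤ A := by
      intro r hr
      obtain ⟨w, hw, hwz⟩ := hro r hr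
      have h2 := mul_mem (inv_mem hz) (hinv w hw z hz)
      rw [hwz, inv_mul_cancel_left] at h2
      exact h2
    have h2 : R = A := Subgroup.eq_of_le_of_card_ge h1 hcard
    rw [h2] at hzR
    exact hzR hz

end lemK

end Cfsg.Agent.Omega.IId.BigFour.SylTools

end

section


/-!
# II.d, `BigFour.CaseTwo`: the frame and LEMMA 2 (helper540, texts #19425, #19731)

`M : NatK F S P V ⊥ k`, `V = zl S P`, `Q = O₂(P)`, `L` an `F`-line of a factor, `Q_L = O₂(N_G(L))`,
`UU L = Z(Q_L)`, `minus M i = line M i × V^i`.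

`FrH M` : characteristic 2 type, THEOREM C, `UU (line M i) ∩ C(Q) ≤ V`, full root groups.

* `FrH.lemK'` : LEMMA K;
* `FrH.minus_inv` : `t ∈ N_G(line M i)`, `stab M i` normalised by `t` ⟹ `minus M i` normalised by `t`.
-/

set_option autoImplicit false
set_option linter.unusedSectionVars false

namespace Cfsg.Agent.Omega.IId.BigFour.SylFr

open Subgroup Cfsg Cfsg.Agent.ZN.ChoiceBase
open Cfsg.Agent.ZN (o2 zc zl)
open Cfsg.Agent.Omega.MinPar Cfsg.Agent.Omega.FFThm Cfsg.Agent.Omega.Frame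
open Cfsg.Agent.Omega.NatPair (ap NatMod PreMod)
open Cfsg.Agent.Omega.IId.FourSide
open Cfsg.Agent.Omega.IId.SideOf (KR KR_le_o2 mem_KR)
open Cfsg.Agent.Omega.IId.Lns (lns)
open Cfsg.Agent.Omega.IId.BigFour.SylTools

universe u

variable {G : Type u} [Group G]

/-- the centre of `O₂(N_G(L))` -/
def UU (L : Subgroup G) : Subgroup G :=
  o2 (normalizer (L : Set G)) ⊓ centralizer (o2 (normalizer (L : Set G)) : Set G)

theorem mem_W_cj {g x : G} {L : Subgroup G} :
    x ∈ o2 (normalizer (cj g L : Set G)) ↔ g⁻¹ * x * g ∈ o2 (normalizer (L : Set G)) := by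
  have h : cj g (o2 (normalizer (L : Set G))) = o2 (normalizer (cj g L : Set G)) := Qt.cj_W g L
  rw [← h, mem_cj]

theorem mem_UU {L : Subgroup G} {y : G} : y ∈ UU L ↔ y ∈ o2 (normalizer (L : Set G)) ∧
    ∀ x ∈ o2 (normalizer (L : Set G)), x * y = y * x := by
  rw [UU, mem_inf, mem_centralizer_iff]
  rfl

theorem le_normalizer_UU (L : Subgroup G) : normalizer (L : Set G) ≤ normalizer (UU L : Set G) := by
  apply Two.le_normalizer_of
  intro g hg y hy
  rw [mem_UU] at hy ⊢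
  have h1 : ∀ x ∈ o2 (normalizer (L : Set G)), g⁻¹ * x * g ∈ o2 (normalizer (L : Set G)) := fun x hx => by
    have := (mem_normalizer_iff.1 (inv_mem (Cfsg.Agent.ZN.le_normalizer_o2 _ hg)) x).1 hx
    rwa [inv_inv] at this
  refine ⟨(mem_normalizer_iff.1 (Cfsg.Agent.ZN.le_normalizer_o2 _ hg) y).1 hy.1, fun x hx => ?_⟩
  have h2 := hy.2 _ (h1 x hx)
  calc x * (g * y * g⁻¹) = g * (g⁻¹ * x * g * y) * g⁻¹ := by group
    _ = g * y * g⁻¹ * x := by rw [h2]; group

variable [Finite G] {F : Type} [Field F] [Finite F] [CharP F 2] {S : Sylow 2 G}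
  {P : Subgroup G} {k : ℕ}

/-- the frame without `hV` -/
structure FrP (M : NatK F (S : Subgroup G) P (zl (S : Subgroup G) P) ⊥ k) : Prop where
  c2T : IsCharacteristicTwoType G
  par : IsParS (S : Subgroup G) P
  cc : CC M
  full : ∀ j, ∀ L ∈ lns M j, ∀ v ∈ fac M j, v ∉ L → ∀ r ∈ L, ∃ w ∈ KR L, w * v * w⁻¹ * v⁻¹ = r

/-- the frame -/
structure FrH (M : NatK F (S : Subgroup G) P (zl (S : Subgroup G) P) ⊥ k) : Prop extends FrP M where
  hV : ∀ i, ∀ y ∈ o2 (normalizer (line M i : Set G)),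
    (∀ x ∈ o2 (normalizer (line M i : Set G)), x * y = y * x) →
    (∀ x ∈ o2 P, x * y = y * x) → y ∈ zl (S : Subgroup G) P

/-- `line M i × V^i` -/
def minus (M : NatK F (S : Subgroup G) P (zl (S : Subgroup G) P) ⊥ k) (i : Fin k) : Subgroup G where
  carrier := {v | v ∈ zl (S : Subgroup G) P ∧ M.e v i 1 = 0}
  one_mem' := ⟨one_mem _, by rw [e_one]; rfl⟩
  mul_mem' := by
    rintro a b ⟨ha, ha'⟩ ⟨hb, hb'⟩
    refine ⟨mul_mem ha hb, ?_⟩
    rw [M.mul a ha b hb, Pi.add_apply, Pi.add_apply, ha', hb', add_zero]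
  inv_mem' := by
    rintro a ⟨ha, ha'⟩
    refine ⟨inv_mem ha, ?_⟩
    rw [e_inv M ha, Pi.neg_apply, Pi.neg_apply, ha', neg_zero]

variable {M : NatK F (S : Subgroup G) P (zl (S : Subgroup G) P) ⊥ k}

theorem mem_minus {i : Fin k} {v : G} :
    v ∈ minus M i ↔ v ∈ zl (S : Subgroup G) P ∧ M.e v i 1 = 0 := Iff.rfl

theorem line_le_minus (i : Fin k) : line M i ≤ minus M i := fun v hv =>
  ⟨fac_le M i (line_le M i hv), ((mem_line M).1 hv).2⟩

theorem part_le_minus (i : Fin k) : part M {i}ᶜ ≤ minus M i := fun v hv =>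
  ⟨hv.1, by rw [hv.2 i (by simp)]; rfl⟩

theorem fac_le_part {i m : Fin k} (h : m ≠ i) : fac M m ≤ part M {i}ᶜ :=
  part_mono M (by simpa using Ne.symm h)

/-- `part M J ≤ B` if `fac M l ≤ B` for `l ∈ J` -/
theorem part_le_of' (M : NatK F (S : Subgroup G) P (zl (S : Subgroup G) P) ⊥ k) (s : Finset (Fin k))
    {B : Subgroup G} (hB : ∀ l ∈ s, fac M l ≤ B) : part M (s : Set (Fin k)) ≤ B := by
  classical
  induction s using Finset.induction_on with
  | empty => rw [Finset.coe_empty, part_empty]; exact bot_le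
  | insert i s _ ih =>
    intro v hv
    obtain ⟨a, ha, h1, h2⟩ := exists_component M hv.1 i
    have h3 : a⁻¹ * v ∈ part M (s : Set (Fin k)) := by
      refine ⟨h2.1, fun j hj => ?_⟩
      by_cases hji : j = i
      · rw [hji]
        exact h2.2 i (by simp)
      · rw [M.mul _ (inv_mem ha.1) _ hv.1, Pi.add_apply, e_inv M ha.1, Pi.neg_apply, ha.2 j hji, neg_zero,
          zero_add]
        refine hv.2 j fun hj' => ?_
        rcases Finset.mem_insert.1 (Finset.mem_coe.1 hj') with h4 | h4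
        · exact hji h4
        · exact hj h4
    have e : v = a * (a⁻¹ * v) := by group
    rw [e]
    exact mul_mem (hB i (Finset.mem_insert_self _ _) ha)
      (ih (fun l hl => hB l (Finset.mem_insert_of_mem hl)) h3)

theorem compl_le_of (M : NatK F (S : Subgroup G) P (zl (S : Subgroup G) P) ⊥ k) {i : Fin k}
    {B : Subgroup G} (hB : ∀ l, l ≠ i → fac M l ≤ B) : part M {i}ᶜ ≤ B := by
  classical
  have h := part_le_of' M (Finset.univ.erase i) fun l hl => hB l (Finset.ne_of_mem_erase hl)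
  have e : ((Finset.univ.erase i : Finset (Fin k)) : Set (Fin k)) = {i}ᶜ := by
    ext j
    simp
  rwa [e] at h

theorem zl_le_of (M : NatK F (S : Subgroup G) P (zl (S : Subgroup G) P) ⊥ k)
    {B : Subgroup G} (hB : ∀ l, fac M l ≤ B) : zl (S : Subgroup G) P ≤ B := by
  classical
  have h := part_le_of' M Finset.univ fun l _ => hB l
  intro v hv
  exact h ⟨hv, fun j hj => absurd (Finset.mem_coe.2 (Finset.mem_univ j)) hj⟩

/-- an element of `minus M i` is `r v` with `r ∈ line M i`, `v ∈ V^i` -/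
theorem minus_le_of {i : Fin k} {B : Subgroup G} (h1 : line M i ≤ B) (h2 : part M {i}ᶜ ≤ B) :
    minus M i ≤ B := by
  intro v hv
  obtain ⟨a, ha, h3, h4⟩ := exists_component M hv.1 i
  have h5 : a ∈ line M i := (mem_line M).2 ⟨ha, by rw [h3]; exact hv.2⟩
  have e : v = a * (a⁻¹ * v) := by group
  rw [e]
  exact mul_mem (h1 h5) (h2 h4)

namespace FrP

variable (h : FrP M)
include h

theorem SP : (S : Subgroup G) ≤ P := h.par.isLoc.le

theorem one (i : Fin k) : BOne M i := BOne.of h.c2T h.par h.cc i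

theorem lns_conj {j : Fin k} {L : Subgroup G} (hL : L ∈ lns M j) :
    ∃ l ∈ grp M {j}, L = cj l (line M j) ∧ (∀ m, ∀ v ∈ fac M m, l⁻¹ * v * l ∈ fac M m) := by
  obtain ⟨l, hl, rfl⟩ := hL
  refine ⟨l, hl, rfl, fun m v hv => ?_⟩
  have := (mem_normalizer_iff.1 (grp_normalizes M {j} {m} (inv_mem hl)) v).1 hv
  rwa [inv_inv] at this

/-- `V ≤ O₂(N_G(L))` -/
theorem fac_le_W {j : Fin k} {L : Subgroup G} (hL : L ∈ lns M j) (m : Fin k) :
    fac M m ≤ o2 (normalizer (L : Set G)) := by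
  obtain ⟨l, hl, rfl, h1⟩ := h.lns_conj hL
  intro v hv
  rw [mem_W_cj]
  exact (h.one j).all_le m (h1 m v hv)

theorem zl_le_W {j : Fin k} {L : Subgroup G} (hL : L ∈ lns M j) :
    zl (S : Subgroup G) P ≤ o2 (normalizer (L : Set G)) := zl_le_of M fun m => h.fac_le_W hL m

/-- `O₂(N_G(L))` centralises the factors different from `V_j`. -/
theorem W_comm {j m : Fin k} {L : Subgroup G} (hL : L ∈ lns M j) (hm : m ≠ j) {x v : G}
    (hx : x ∈ o2 (normalizer (L : Set G))) (hv : v ∈ fac M m) : x * v = v * x := by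
  obtain ⟨l, hl, rfl, h1⟩ := h.lns_conj hL
  rw [mem_W_cj] at hx
  have h2 := mem_centralizer_iff.1 (h.cc j m hm (h1 m v hv)) _ hx
  calc x * v = l * (l⁻¹ * x * l * (l⁻¹ * v * l)) * l⁻¹ := by group
    _ = v * x := by rw [h2]; group

theorem W_comm_part {j : Fin k} {L : Subgroup G} (hL : L ∈ lns M j) {x v : G}
    (hx : x ∈ o2 (normalizer (L : Set G))) (hv : v ∈ part M {j}ᶜ) : x * v = v * x := by
  have h1 : part M {j}ᶜ ≤ centralizer ({x} : Set G) := compl_le_of M fun m hm v hv =>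
    mem_centralizer_singleton_iff.2 (h.W_comm hL hm hx hv).symm
  exact (mem_centralizer_singleton_iff.1 (h1 hv)).symm

/-- `O₂(N_G(L))` centralises `L`. -/
theorem W_comm_L {j : Fin k} {L : Subgroup G} (hL : L ∈ lns M j) {x r : G}
    (hx : x ∈ o2 (normalizer (L : Set G))) (hr : r ∈ L) : x * r = r * x := by
  obtain ⟨l, hl, rfl, h1⟩ := h.lns_conj hL
  rw [mem_W_cj] at hx
  rw [mem_cj] at hr
  have h2 := mem_centralizer_iff.1 ((h.one j).o2_cent_line hx) _ hr
  calc x * r = l * (l⁻¹ * x * l * (l⁻¹ * r * l)) * l⁻¹ := by group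
    _ = r * x := by rw [← h2]; group

theorem W_le_P {j : Fin k} {L : Subgroup G} (hL : L ∈ lns M j) : o2 (normalizer (L : Set G)) ≤ P := by
  obtain ⟨l, hl, rfl, h1⟩ := h.lns_conj hL
  intro x hx
  rw [mem_W_cj] at hx
  have h2 : l⁻¹ * x * l ∈ P := h.SP (stab_le M j ((h.one j).QT hx))
  have e : x = l * (l⁻¹ * x * l) * l⁻¹ := by group
  have hlP : l ∈ P := grp_le M _ hl
  rw [e]
  exact mul_mem (mul_mem hlP h2) (inv_mem hlP)

theorem L_le_V {j : Fin k} {L : Subgroup G} (hL : L ∈ lns M j) : L ≤ zl (S : Subgroup G) P :=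
  (Lns.lns_le hL).trans (fac_le M j)

theorem L_ne {j : Fin k} {L : Subgroup G} (hL : L ∈ lns M j) : L ≠ ⊥ := by
  obtain ⟨l, hl, rfl⟩ := hL
  intro h0
  have h1 : line M j = ⊥ := by
    rw [← cj_inv_cj l (line M j), h0]
    exact Subgroup.map_bot _
  exact line_ne_bot j h1

theorem L_card {j : Fin k} {L : Subgroup G} (hL : L ∈ lns M j) : Nat.card L = Nat.card F := by
  obtain ⟨l, hl, rfl⟩ := hL
  rw [← card_line M j]
  exact Nat.card_congr ((line M j).equivMapOfInjective _ (MulAut.conj l).injective).toEquiv.symm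

theorem KR_le_W {j : Fin k} {L : Subgroup G} (hL : L ∈ lns M j) : KR L ≤ o2 (normalizer (L : Set G)) :=
  KR_le_o2 h.c2T (h.L_ne hL) fun x hx => sq M (h.L_le_V hL hx)

/-- `Q = C_S(V)` centralises `V`. -/
theorem Q_comm {x v : G} (hx : x ∈ o2 P) (hv : v ∈ zl (S : Subgroup G) P) : x * v = v * x := by
  rw [← IsParS.inf_centralizer S h.c2T h.par] at hx
  exact (mem_centralizer_iff.1 hx.2 v hv).symm

/-- **(F)**, first half: `Z(O₂(N_G(L))) ≤ Q`. -/
theorem UU_le_Q {j : Fin k} {L : Subgroup G} (hL : L ∈ lns M j) : UU L ≤ o2 P := by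
  have hVW := h.zl_le_W hL
  have h1 : UU L ≤ centralizer (zl (S : Subgroup G) P : Set G) := by
    intro y hy
    rw [mem_centralizer_iff]
    intro v hv
    exact (mem_UU.1 hy).2 v (hVW hv)
  have h2 : centralizer (zl (S : Subgroup G) P : Set G) ≤ normalizer (L : Set G) :=
    (centralizer_le (h.L_le_V hL)).trans (centralizer_le_normalizer _)
  have h3 : UU L ≤ o2 (centralizer (zl (S : Subgroup G) P : Set G)) :=
    Cfsg.Agent.ZN.le_o2 h1 ((MinSimple.VModule.o2_isPGroup _).to_le inf_le_left) (h2.trans (le_normalizer_UU L))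
  have h4 : (S : Subgroup G) ≤ normalizer (centralizer (zl (S : Subgroup G) P : Set G) : Set G) := by
    have h5 : (S : Subgroup G) ≤ normalizer (zl (S : Subgroup G) P : Set G) :=
      h.SP.trans (MinSimple.VModule.le_normalizer_zl _ P)
    apply Two.le_normalizer_of
    intro s hs x hx
    rw [mem_centralizer_iff] at hx ⊢
    intro v hv
    have h7 : s⁻¹ * v * s ∈ zl (S : Subgroup G) P := by
      have := (mem_normalizer_iff.1 (h5 (inv_mem hs)) v).1 hv
      rwa [inv_inv] at this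
    have h8 := hx _ h7
    calc v * (s * x * s⁻¹) = s * (s⁻¹ * v * s * x) * s⁻¹ := by group
      _ = s * x * s⁻¹ * v := by rw [h8]; group
  have h5 : (S : Subgroup G) ≤ normalizer (o2 (centralizer (zl (S : Subgroup G) P : Set G)) : Set G) := by
    intro s hs
    rw [MinSimple.Geo.mem_normalizer_iff_cj, MinSimple.Geo.cj_o2,
      MinSimple.Geo.cj_eq_of_mem_normalizer (h4 hs)]
  have h6 : o2 (centralizer (zl (S : Subgroup G) P : Set G)) ≤ (S : Subgroup G) := by
    have h7 : IsPGroup 2 ((S : Subgroup G) ⊔ o2 (centralizer (zl (S : Subgroup G) P : Set G)) : Subgroup G) :=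
      IsPGroup.to_sup_of_normal_right' S.isPGroup' (MinSimple.VModule.o2_isPGroup _) h5
    have := ThmC.TwoSeven.sylow_eq_of_le S h7 le_sup_left
    exact le_sup_right.trans this.le
  rw [← IsParS.inf_centralizer S h.c2T h.par]
  exact le_inf (h3.trans h6) h1

/-- **(F)**, second half: `Z(O₂(N_G(R_i))) ∩ C(Z(O₂(N_G(L)))) ≤ O₂(N_G(L))`, `L` a line of `V_j`, `j ≠ i`. -/
theorem mem_W_of {i j : Fin k} (hij : i ≠ j) {L : Subgroup G} (hL : L ∈ lns M j) {y : G}
    (hy : y ∈ UU (line M i)) (hc : ∀ u ∈ UU L, y * u = u * y) : y ∈ o2 (normalizer (L : Set G)) := by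
  set X : Subgroup G := centralizer (UU L : Set G) with hX
  have hLU : L ≤ UU L := fun r hr => mem_UU.2 ⟨h.zl_le_W hL (h.L_le_V hL hr), fun x hx => h.W_comm_L hL hx hr⟩
  have hVU : fac M i ≤ UU L := fun v hv => mem_UU.2 ⟨h.fac_le_W hL i hv, fun x hx => h.W_comm hL hij hx hv⟩
  have hXL : X ≤ normalizer (L : Set G) := (centralizer_le hLU).trans (centralizer_le_normalizer _)
  have hXi : X ≤ normalizer (line M i : Set G) :=
    (centralizer_le ((line_le M i).trans hVU)).trans (centralizer_le_normalizer _)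
  have hNX : normalizer (L : Set G) ≤ normalizer (X : Set G) := by
    have h5 := le_normalizer_UU L
    apply Two.le_normalizer_of
    intro s hs x hx
    rw [hX, mem_centralizer_iff] at hx ⊢
    intro v hv
    have h7 : s⁻¹ * v * s ∈ UU L := by
      have := (mem_normalizer_iff.1 (h5 (inv_mem hs)) v).1 hv
      rwa [inv_inv] at this
    have h8 := hx _ h7
    calc v * (s * x * s⁻¹) = s * (s⁻¹ * v * s * x) * s⁻¹ := by group
      _ = s * x * s⁻¹ * v := by rw [h8]; group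
  -- `UU (line M i) ∩ X` is a normal 2-subgroup of `X`
  have h1 : UU (line M i) ⊓ X ≤ o2 X := by
    refine Cfsg.Agent.ZN.le_o2 inf_le_right
      ((MinSimple.VModule.o2_isPGroup _).to_le (inf_le_left.trans inf_le_left)) ?_
    exact Half.le_normalizer_inf (hXi.trans (le_normalizer_UU _)) le_normalizer
  have h2 : o2 X ≤ o2 (normalizer (L : Set G)) := by
    refine Cfsg.Agent.ZN.le_o2 ((Cfsg.Agent.ZN.o2_le _).trans hXL) (MinSimple.VModule.o2_isPGroup _) ?_
    intro s hs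
    rw [MinSimple.Geo.mem_normalizer_iff_cj, MinSimple.Geo.cj_o2,
      MinSimple.Geo.cj_eq_of_mem_normalizer (hNX hs)]
  refine h2 (h1 ⟨hy, ?_⟩)
  rw [hX]
  exact mem_centralizer_iff.2 fun u hu => (hc u hu).symm

/-- `minus M i ≤ UU (line M i)` -/
theorem minus_le_UU (i : Fin k) : minus M i ≤ UU (line M i) := by
  have hL := Lns.line_mem_lns (M := M) i
  exact minus_le_of (fun r hr => mem_UU.2 ⟨h.zl_le_W hL (h.L_le_V hL hr), fun _ hx => h.W_comm_L hL hx hr⟩)
    fun v hv => mem_UU.2 ⟨h.zl_le_W hL hv.1, fun _ hx => h.W_comm_part hL hx hv⟩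

/-- `KR L` acts on `z ∈ V` through the component in `V_j`. -/
theorem root {j : Fin k} {L : Subgroup G} (hL : L ∈ lns M j) {z a : G} (hz : z ∈ zl (S : Subgroup G) P)
    (ha : a ∈ fac M j) (hza : a⁻¹ * z ∈ part M {j}ᶜ) (haL : a ∉ L) {r : G} (hr : r ∈ L) :
    ∃ w ∈ KR L, w * z * w⁻¹ = z * r := by
  obtain ⟨w, hw, hwa⟩ := h.full j L hL a ha haL r hr
  refine ⟨w, hw, ?_⟩
  have h1 := h.W_comm_part hL (h.KR_le_W hL hw) hza
  have h2 : w * a * w⁻¹ = r * a := by rw [← hwa]; group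
  have h3 : r * a = a * r := comm M (h.L_le_V hL hr) ha.1
  have h4 : r * (a⁻¹ * z) = a⁻¹ * z * r := comm M (h.L_le_V hL hr) hza.1
  calc w * z * w⁻¹ = (w * a * w⁻¹) * (w * (a⁻¹ * z) * w⁻¹) := by group
    _ = a * r * (a⁻¹ * z) := by rw [h2, h3, h1, mul_inv_cancel_right]
    _ = z * r := by rw [mul_assoc, h4]; group

/-- `UU (line M i) ∩ V = minus M i` -/
theorem mem_minus_of {i : Fin k} {y : G} (hy : y ∈ UU (line M i)) (hyV : y ∈ zl (S : Subgroup G) P) :
    y ∈ minus M i := by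
  refine ⟨hyV, ?_⟩
  by_contra h0
  obtain ⟨a, ha, h1, h2⟩ := exists_component M hyV i
  have haL : a ∉ line M i := fun h3 => h0 (by rw [← h1]; exact ((mem_line M).1 h3).2)
  obtain ⟨r, hr, hr1⟩ := exists_line M i
  have hL := Lns.line_mem_lns (M := M) i
  obtain ⟨w, hw, hwz⟩ := h.root hL hyV ha h2 haL hr
  have h3 := (mem_UU.1 hy).2 w (h.KR_le_W hL hw)
  rw [h3, mul_inv_cancel_right] at hwz
  exact hr1 (mul_eq_left.1 hwz.symm)

/-- `Q ≤ stab M i` -/
theorem Q_le_stab (i : Fin k) : o2 P ≤ stab M i := by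
  intro x hx
  have h1 := hx
  rw [← IsParS.inf_centralizer S h.c2T h.par] at h1
  refine mem_stab_of_fix h.SP h1.1 (line_le M i (exists_line M i).choose_spec.1)
    (exists_line M i).choose_spec.2 (h.Q_comm hx (fac_le M i (line_le M i (exists_line M i).choose_spec.1)))

end FrP

namespace FrH

variable (h : FrH M)
include h

/-- **LEMMA K.** -/
theorem lemK' {i : Fin k} {Y A : Subgroup G} (hY : Y ≤ UU (line M i))
    (hA : ∀ y ∈ Y, ∀ g ∈ o2 P, y * g * y⁻¹ * g⁻¹ ∈ A)
    (hA' : A ≤ closure {a | ∃ y ∈ Y, ∃ g ∈ o2 P, y * g * y⁻¹ * g⁻¹ = a})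
    (hmin : ∀ u ∈ o2 P, (∃ y ∈ Y, y * u ≠ u * y) → A ≤ closure {a | ∃ y ∈ Y, y * u * y⁻¹ * u⁻¹ = a})
    (hAQ : ∀ a ∈ A, ∀ g ∈ o2 P, g * a = a * g) (hcard : Nat.card A ≤ Nat.card F) : A ≤ line M i := by
  have hQU : o2 P ≤ normalizer (UU (line M i) : Set G) :=
    ((h.Q_le_stab i).trans (stab_normalizes_line M h.SP i)).trans (le_normalizer_UU _)
  have hAU : A ≤ UU (line M i) := by
    refine hA'.trans ?_
    rw [closure_le]
    rintro _ ⟨y, hy, g, hg, rfl⟩
    have h1 := (mem_normalizer_iff.1 (hQU hg) _).1 (inv_mem (hY hy))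
    have e : y * g * y⁻¹ * g⁻¹ = y * (g * y⁻¹ * g⁻¹) := by group
    rw [e]
    exact mul_mem (hY hy) h1
  intro z hz
  have hzV : z ∈ zl (S : Subgroup G) P :=
    h.hV i z (mem_UU.1 (hAU hz)).1 (mem_UU.1 (hAU hz)).2 fun x hx => hAQ z hz x hx
  have hzm : z ∈ minus M i := h.mem_minus_of (hAU hz) hzV
  have hzi : z ∈ fac M i := by
    refine ⟨hzV, fun j hj => ?_⟩
    by_contra h0
    have hji : i ≠ j := fun e => hj (by rw [e]; rfl)
    obtain ⟨a, ha, h1, h2⟩ := exists_component M hzV j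
    have ha1 : a ≠ 1 := by
      rintro rfl
      rw [e_one] at h1
      exact h0 h1.symm
    -- a line of `V_j` not containing `a`
    obtain ⟨L₁, hL₁, haL₁⟩ := Lns.exists_mem_lns ha
    obtain ⟨L, hL, hne, -⟩ := Lns.exists_third_lns hL₁ hL₁
    have haL : a ∉ L := fun h3 => ha1 (Lns.lns_inf hL₁ hL (Ne.symm hne) haL₁ h3)
    have hzL : z ∈ L := by
      refine lemK (Q := o2 P) (U := UU L) (Kr := KR L) (R := L) (Y := Y) (A := A) hA hA' hmin (h.UU_le_Q hL)
        ?_ ?_ ?_ ?_ ?_ hz (fun _ r hr => h.root hL hzV ha h2 haL hr) (hcard.trans (h.L_card hL).ge) (h.L_ne hL)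
      · intro y hy u hu
        have hyL : y ∈ normalizer (L : Set G) := by
          apply centralizer_le_normalizer
          rw [mem_centralizer_iff]
          intro r hr
          exact (mem_UU.1 (hY hy)).2 r (h.zl_le_W (Lns.line_mem_lns i) (h.L_le_V hL hr))
        have h3 := (mem_normalizer_iff.1 (le_normalizer_UU L hyL) u).1 hu
        exact mul_mem h3 (inv_mem hu)
      · intro u hu w hw
        exact (mem_UU.1 hu).2 w (h.KR_le_W hL hw)
      · intro r hr g hg
        exact (h.Q_comm hg (h.L_le_V hL hr)).symm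
      · intro hYU y hy w hw
        have h3 := h.mem_W_of hji hL (hY hy) (hYU y hy)
        have h4 := hw.2 y h3
        refine ⟨w * y * w⁻¹ * y⁻¹, h4, ?_⟩
        have h5 := h.W_comm_L hL h3 h4
        rw [h5]; group
      · intro w hw g hg
        have hwP : w ∈ P := h.W_le_P hL (h.KR_le_W hL hw)
        exact (mem_normalizer_iff.1 (Cfsg.Agent.ZN.le_normalizer_o2 P hwP) g).1 hg
    -- `z ∈ L ≤ V_j` is its own component
    have h3 : a = z := ext_fac M ha (Lns.lns_le hL hzL) h1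
    exact haL (h3 ▸ hzL)
  exact (mem_line M).2 ⟨hzi, hzm.2⟩

end FrH

/-! ### LEMMA 2 -/

/-- The subgroup `{1, a}`. -/
def two (a : G) (ha : a * a = 1) : Subgroup G where
  carrier := {x | x = 1 ∨ x = a}
  one_mem' := Or.inl rfl
  mul_mem' := by
    rintro x y (rfl | rfl) (rfl | rfl)
    · left; rw [mul_one]
    · right; rw [one_mul]
    · right; rw [mul_one]
    · left; exact ha
  inv_mem' := by
    rintro x (rfl | rfl)
    · left; rw [inv_one]
    · right; exact inv_eq_of_mul_eq_one_left ha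

theorem mem_two {a : G} (ha : a * a = 1) {x : G} : x ∈ two a ha ↔ x = 1 ∨ x = a := Iff.rfl

theorem card_two_le {a : G} (ha : a * a = 1) : Nat.card (two a ha) ≤ 2 := by
  have h1 : ((two a ha : Subgroup G) : Set G) = {1, a} := by
    ext x
    rfl
  have h2 : Nat.card (two a ha) = ({1, a} : Set G).ncard := by
    rw [← h1]
    rfl
  rw [h2]
  exact (Set.ncard_insert_le 1 {a}).trans (by rw [Set.ncard_singleton])

omit [Finite G] in
/-- A root element of `V_l` has the whole line as commutator. -/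
theorem key (hSP : (S : Subgroup G) ≤ P) {l : Fin k} {x : G} (hx : x ∈ stab M l)
    (hc : ∀ r ∈ line M l, x * r = r * x) (hcm : ∀ v ∈ fac M l, x * v * x⁻¹ * v⁻¹ ∈ line M l)
    (hne : ∃ v ∈ fac M l, v * x ≠ x * v) {r : G} (hr : r ∈ line M l) :
    ∃ v ∈ fac M l, v * x * v⁻¹ * x⁻¹ = r := by
  obtain ⟨b, hb⟩ := Lns.exists_up (hSP (stab_le M l hx))
    (fun r hr => by rw [hc r hr, mul_inv_cancel_right]) hcm
  have hwn := stab_normalizes M l hx
  have hb0 : b ≠ 0 := by
    rintro rfl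
    obtain ⟨v, hv, hvw⟩ := hne
    apply hvw
    have h1 : x * v * x⁻¹ = v := by
      refine ext_fac M ((mem_normalizer_iff.1 hwn v).1 hv) hv ?_
      rw [hb v hv, Lib.SL2Mat.up_zero, NatPair.ap_one]
    calc v * x = x * v * x⁻¹ * x := by rw [h1]
      _ = x * v := by group
  obtain ⟨v, hv, hev⟩ := exists_fac M l ![0, - M.e r l 0 / b]
  have hwv := (mem_normalizer_iff.1 hwn _).1 (inv_mem hv)
  refine ⟨v, hv, ?_⟩
  have e : v * x * v⁻¹ * x⁻¹ = v * (x * v⁻¹ * x⁻¹) := by group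
  rw [e]
  refine ext_fac M (mul_mem hv hwv) (line_le M l hr) ?_
  rw [M.mul _ hv.1 _ hwv.1, Pi.add_apply, hb _ (inv_mem hv), e_inv M hv.1, Pi.neg_apply, hev]
  apply NatPair.ext2
  · rw [Pi.add_apply, NatPair.ap_zero', Lib.SL2Mat.up_00, Lib.SL2Mat.up_01]
    simp only [Matrix.cons_val_zero, Matrix.cons_val_one, Pi.neg_apply]
    field_simp
    ring
  · rw [Pi.add_apply, NatPair.ap_one', Lib.SL2Mat.up_10, Lib.SL2Mat.up_11, ((mem_line M).1 hr).2]
    simp only [Matrix.cons_val_zero, Matrix.cons_val_one, Pi.neg_apply]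
    ring

/-- (A): helper156's `exists_orbit_two`. -/
def OrbitTwo (M : NatK F (S : Subgroup G) P (zl (S : Subgroup G) P) ⊥ k) (i : Fin k) : Prop :=
  ∀ X : Subgroup G, X ≤ stab M i → (∃ l, l ≠ i ∧ ∃ r ∈ line M l, ∃ x ∈ X, x * r * x⁻¹ ≠ r) →
    ∃ n b, n ∈ part M {i}ᶜ ∧ b ∈ part M {i}ᶜ ∧ b ≠ 1 ∧ (∃ x ∈ X, n * x * n⁻¹ * x⁻¹ = b) ∧
      ∀ x ∈ X, n * x * n⁻¹ * x⁻¹ = 1 ∨ n * x * n⁻¹ * x⁻¹ = b

namespace FrH

variable (h : FrH M)
include h

/-- **LEMMA 2.** -/
theorem minus_inv {i : Fin k} (hO : OrbitTwo M i) {t : G} (ht : t ∈ normalizer (line M i : Set G))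
    (htT : t ∈ normalizer (stab M i : Set G)) : ∀ v ∈ minus M i, t * v * t⁻¹ ∈ minus M i := by
  set X : Subgroup G := cj t⁻¹ (o2 P) with hXd
  have hX : ∀ {x}, x ∈ X ↔ t * x * t⁻¹ ∈ o2 P := by
    intro x
    rw [hXd, mem_cj, inv_inv]
  have hXT : X ≤ stab M i := fun x hx => (mem_normalizer_iff.1 htT x).2 (h.Q_le_stab i (hX.1 hx))
  have hgX : ∀ {g}, g ∈ o2 P → t⁻¹ * g * t ∈ X := by
    intro g hg
    rw [hX]
    have e : t * (t⁻¹ * g * t) * t⁻¹ = g := by group
    rwa [e]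
  have htU : ∀ {y}, y ∈ UU (line M i) → t * y * t⁻¹ ∈ UU (line M i) := fun {y} hy =>
    (mem_normalizer_iff.1 (le_normalizer_UU _ ht) y).1 hy
  have hpU : part M {i}ᶜ ≤ UU (line M i) := (part_le_minus i).trans (h.minus_le_UU i)
  -- conjugation of commutators
  have hcom : ∀ v g, t * v * t⁻¹ * g * (t * v * t⁻¹)⁻¹ * g⁻¹ =
      t * (v * (t⁻¹ * g * t) * v⁻¹ * (t⁻¹ * g * t)⁻¹) * t⁻¹ := fun v g => by group
  -- Step 1
  have s1 : ∀ l, l ≠ i → ∀ r ∈ line M l, ∀ x ∈ X, x * r = r * x := by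
    by_contra hcon
    push Not at hcon
    obtain ⟨l, hl, r, hr, x, hx, hxr⟩ := hcon
    obtain ⟨n, b, hn, hb, hb1, ⟨x₀, hx₀, hx₀b⟩, hall⟩ := hO X hXT
      ⟨l, hl, r, hr, x, hx, fun e => hxr (mul_inv_eq_iff_eq_mul.1 e)⟩
    have hnn : n * n = 1 := sq M hn.1
    have hbb : b * b = 1 := sq M hb.1
    have hy2 : t * n * t⁻¹ * (t * n * t⁻¹) = 1 := by
      have e : t * n * t⁻¹ * (t * n * t⁻¹) = t * (n * n) * t⁻¹ := by group
      rw [e, hnn]; group
    have ha2 : t * b * t⁻¹ * (t * b * t⁻¹) = 1 := by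
      have e : t * b * t⁻¹ * (t * b * t⁻¹) = t * (b * b) * t⁻¹ := by group
      rw [e, hbb]; group
    -- `X` centralises `b`
    have hXb : ∀ x ∈ X, x * b * x⁻¹ = b := by
      intro x hx
      have h1 : n * (x * x₀) * n⁻¹ * (x * x₀)⁻¹ = (n * x * n⁻¹ * x⁻¹) * (x * b * x⁻¹) := by
        rw [← hx₀b]; group
      have hne : x * b * x⁻¹ ≠ 1 := fun h0 => hb1 (by
        have e : b = x⁻¹ * (x * b * x⁻¹) * x := by group
        rw [e, h0]; group)
      rcases hall x hx with h2 | h2 <;> rcases hall _ (mul_mem hx hx₀) with h3 | h3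
      · rw [h1, h2, one_mul] at h3
        exact absurd h3 hne
      · rw [h1, h2, one_mul] at h3
        exact h3
      · rw [h1, h2] at h3
        have h4 := eq_inv_of_mul_eq_one_right h3
        rw [h4]
        exact inv_eq_of_mul_eq_one_left hbb
      · rw [h1, h2] at h3
        exact absurd (mul_eq_left.1 h3) hne
    have hle := h.lemK' (i := i) (Y := two _ hy2) (A := two _ ha2) ?_ ?_ ?_ ?_ ?_ ?_
    · have h1 : t * b * t⁻¹ ∈ line M i := hle (Or.inr rfl)
      have h2 : b ∈ line M i := (mem_normalizer_iff.1 ht b).2 h1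
      apply hb1
      rw [← e_eq_zero M hb.1]
      funext j
      by_cases hj : j = i
      · rw [hj]
        exact hb.2 i (by simp)
      · exact (line_le M i h2).2 j hj
    · rintro y (rfl | rfl)
      · exact one_mem _
      · exact htU (hpU hn)
    · rintro y (rfl | rfl) g hg
      · left; group
      · rw [hcom]
        rcases hall _ (hgX hg) with h1 | h1
        · left; rw [h1]; group
        · right; rw [h1]
    · rintro a (rfl | rfl)
      · exact one_mem _
      · refine subset_closure ⟨_, Or.inr rfl, t * x₀ * t⁻¹, hX.1 hx₀, ?_⟩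
        rw [← hx₀b]; group
    · rintro u hu ⟨y, hy, hyu⟩
      rcases hy with rfl | rfl
      · exact absurd (by rw [one_mul, mul_one]) hyu
      · rintro a (rfl | rfl)
        · exact one_mem _
        · refine subset_closure ⟨_, Or.inr rfl, ?_⟩
          rw [hcom]
          rcases hall _ (hgX hu) with h1 | h1
          · exfalso
            apply hyu
            have h2 := hcom n u
            rw [h1, mul_one, mul_inv_cancel] at h2
            have h3 := mul_inv_eq_one.1 h2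
            exact mul_inv_eq_iff_eq_mul.1 h3
          · rw [h1]
    · rintro a (rfl | rfl) g hg
      · rw [one_mul, mul_one]
      · have h1 := hXb _ (hgX hg)
        have h2 : g * (t * b * t⁻¹) * g⁻¹ = t * (t⁻¹ * g * t * b * (t⁻¹ * g * t)⁻¹) * t⁻¹ := by group
        rw [h1] at h2
        exact mul_inv_eq_iff_eq_mul.1 h2
    · refine (card_two_le ha2).trans ?_
      exact Finite.one_lt_card
  -- Step 2
  have s2 : ∀ l, l ≠ i → ∀ v ∈ fac M l, ∀ x ∈ X, x * v = v * x := by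
    by_contra hcon
    push Not at hcon
    obtain ⟨l, hl, v₀, hv₀, x₀, hx₀, hne⟩ := hcon
    have hXS : X ≤ (S : Subgroup G) := hXT.trans (stab_le M i)
    have hXl : X ≤ stab M l := le_stab_of_fix h.SP hXS (s1 l hl)
    have hcm : ∀ x ∈ X, ∀ v ∈ fac M l, x * v * x⁻¹ * v⁻¹ ∈ line M l := fun x hx =>
      comm_line h.SP (hXl hx) fun r hr => s1 l hl r hr x hx
    have hcm' : ∀ x ∈ X, ∀ v ∈ fac M l, v * x * v⁻¹ * x⁻¹ ∈ line M l := by
      intro x hx v hv
      have h1 := hcm x hx _ (inv_mem hv)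
      have h2 : x * v⁻¹ * x⁻¹ ∈ fac M l :=
        (mem_normalizer_iff.1 (stab_normalizes M l (hXl hx)) _).1 (inv_mem hv)
      have h3 : v * (x * v⁻¹ * x⁻¹) = x * v⁻¹ * x⁻¹ * v := comm M hv.1 h2.1
      have e : v * x * v⁻¹ * x⁻¹ = x * v⁻¹ * x⁻¹ * v⁻¹⁻¹ := by
        rw [inv_inv, ← h3]; group
      rw [e]
      exact h1
    have hkey : ∀ x ∈ X, (∃ v ∈ fac M l, v * x ≠ x * v) → ∀ r ∈ line M l,
        ∃ v ∈ fac M l, v * x * v⁻¹ * x⁻¹ = r := fun x hx hv r hr =>
      key h.SP (hXl hx) (fun r hr => s1 l hl r hr x hx) (hcm x hx) hv hr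
    have hgen : ∀ u ∈ o2 P, (∃ y ∈ cj t (fac M l), y * u ≠ u * y) →
        cj t (line M l) ≤ closure {a | ∃ y ∈ cj t (fac M l), y * u * y⁻¹ * u⁻¹ = a} := by
      rintro u hu ⟨y, hy, hyu⟩
      rw [mem_cj] at hy
      intro a ha
      rw [mem_cj] at ha
      obtain ⟨v, hv, hvx⟩ := hkey _ (hgX hu) ⟨_, hy, fun e => hyu (by
        calc y * u = t * (t⁻¹ * y * t * (t⁻¹ * u * t)) * t⁻¹ := by group
          _ = u * y := by rw [e]; group)⟩ _ ha
      refine subset_closure ⟨t * v * t⁻¹, ?_, ?_⟩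
      · rw [mem_cj]
        have e : t⁻¹ * (t * v * t⁻¹) * t = v := by group
        rwa [e]
      · rw [hcom, hvx]; group
    have hle := h.lemK' (i := i) (Y := cj t (fac M l)) (A := cj t (line M l)) ?_ ?_ ?_ hgen ?_ ?_
    · obtain ⟨r, hr, hr1⟩ := exists_line M l
      have h1 : t * r * t⁻¹ ∈ line M i := hle (by
        rw [mem_cj]
        have e : t⁻¹ * (t * r * t⁻¹) * t = r := by group
        rwa [e])
      have h2 : r ∈ line M i := (mem_normalizer_iff.1 ht r).2 h1
      have h3 : r ∈ fac M l ⊓ fac M i := ⟨line_le M l hr, line_le M i h2⟩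
      rw [fac_inf M hl, mem_bot] at h3
      exact hr1 h3
    · intro y hy
      rw [mem_cj] at hy
      have h1 := htU (hpU (fac_le_part hl hy))
      have e : t * (t⁻¹ * y * t) * t⁻¹ = y := by group
      rwa [e] at h1
    · intro y hy g hg
      rw [mem_cj] at hy
      rw [mem_cj]
      have e : t⁻¹ * (y * g * y⁻¹ * g⁻¹) * t =
          t⁻¹ * y * t * (t⁻¹ * g * t) * (t⁻¹ * y * t)⁻¹ * (t⁻¹ * g * t)⁻¹ := by group
      rw [e]
      exact hcm' _ (hgX hg) _ hy
    · refine (hgen (t * x₀ * t⁻¹) (hX.1 hx₀) ⟨t * v₀ * t⁻¹, ?_, ?_⟩).trans ?_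
      · rw [mem_cj]
        have e : t⁻¹ * (t * v₀ * t⁻¹) * t = v₀ := by group
        rwa [e]
      · intro e
        apply hne
        have e1 : t⁻¹ * (t * v₀ * t⁻¹ * (t * x₀ * t⁻¹)) * t = v₀ * x₀ := by group
        have e2 : t⁻¹ * (t * x₀ * t⁻¹ * (t * v₀ * t⁻¹)) * t = x₀ * v₀ := by group
        rw [← e1, ← e2, e]
      · rw [closure_le]
        rintro _ ⟨y, hy, rfl⟩
        exact subset_closure ⟨y, hy, _, hX.1 hx₀, rfl⟩
    · intro a ha g hg
      rw [mem_cj] at ha
      have h1 := s1 l hl _ ha _ (hgX hg)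
      calc g * a = t * (t⁻¹ * g * t * (t⁻¹ * a * t)) * t⁻¹ := by group
        _ = a * g := by rw [h1]; group
    · have h1 : Nat.card (cj t (line M l)) = Nat.card (line M l) :=
        Nat.card_congr ((line M l).equivMapOfInjective _ (MulAut.conj t).injective).toEquiv.symm
      rw [h1, card_line]
  -- Step 3
  intro v hv
  have s3 : ∀ x ∈ X, x * v = v * x := by
    intro x hx
    have h1 : minus M i ≤ centralizer ({x} : Set G) := by
      refine minus_le_of (fun r hr => ?_) (compl_le_of M fun m hm v hv => ?_)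
      · rw [mem_centralizer_singleton_iff]
        have h2 := h.Q_comm (hX.1 hx) (fac_le M i (line_le M i ((mem_normalizer_iff.1 ht r).1 hr)))
        calc r * x = t⁻¹ * (t * r * t⁻¹ * (t * x * t⁻¹)) * t := by group
          _ = x * r := by rw [← h2]; group
      · rw [mem_centralizer_singleton_iff]
        exact (s2 m hm v hv x hx).symm
    exact (mem_centralizer_singleton_iff.1 (h1 hv)).symm
  have hU := htU (h.minus_le_UU i hv)
  refine h.mem_minus_of hU (h.hV i _ (mem_UU.1 hU).1 (mem_UU.1 hU).2 fun g hg => ?_)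
  have h1 := s3 _ (hgX hg)
  calc g * (t * v * t⁻¹) = t * (t⁻¹ * g * t * v) * t⁻¹ := by group
    _ = t * v * t⁻¹ * g := by rw [h1]; group

end FrH

end Cfsg.Agent.Omega.IId.BigFour.SylFr

end
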