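import Cfsg.Agent.Mrg.Omega.IId.BigFour.Entry
import Cfsg.Agent.Mrg.Omega.IId.TwoK
import Cfsg.Agent.Mrg.Omega.IId.Sup
import Cfsg.Agent.Mrg.Omega.ThmC.FourOf

section


/-!
# II.d, `WrBigFour K`: the cut (helper540)

* `Ent` : the data of CASE 1, unmixed, any number of factors; `NoBigEnt K` : impossible for `k > 2`;
* `CaseTwo K` : CASE 2: `N_S(V_i)` or `N_{S'}(V_i')` is not a Sylow 2-subgroup of `N_G(R)`; a side in CASE 1 with at
  least two factors is mixed;
* `wrBigFour_of` : `ThmC → NoTwoEnt K → NoBigEnt K → CaseTwo K → WrBigFour K`.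
-/

set_option autoImplicit false
set_option linter.unusedSectionVars false

namespace Cfsg.Agent.Omega.IId.BigFour

open Subgroup Cfsg Cfsg.Agent.ZN.ChoiceBase
open Cfsg.Agent.ZN (o2 zc zl)
open Cfsg.Agent.Omega.MinPar Cfsg.Agent.Omega.FFThm Cfsg.Agent.Omega.Frame
open Cfsg.Agent.Lib.SL2Mat
open Cfsg.Agent.Omega.NatPair (ap NatMod PreMod)
open scoped commutatorElement

universe u

/-! ### The pair -/

section pair

variable {G : Type u} [Group G] [Finite G] {F F' : Type} [Field F] [Finite F] [CharP F 2]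
  [Field F'] [Finite F'] [CharP F' 2] {S S' : Sylow 2 G} {P P' : Subgroup G} {k k' : ℕ}

/-- `R = [V, V']` is a line of one factor on each side, and these two factors do not commute. -/
theorem exists_sides (hc : IsCharacteristicTwoType G) (h : Pair S S' P P')
    (hT : NoOver (zl (S : Subgroup G) P) P) (hT' : NoOver (zl (S' : Subgroup G) P') P')
    (M : NatK F (S : Subgroup G) P (zl (S : Subgroup G) P) ⊥ k)
    (M' : NatK F' (S' : Subgroup G) P' (zl (S' : Subgroup G) P') ⊥ k') (hk' : 1 ≤ k')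
    (hq : Nat.card ↥⁅zl (S : Subgroup G) P, zl (S' : Subgroup G) P'⁆ = Nat.card F) :
    ∃ (i : Fin k) (i' : Fin k'), ⁅zl (S : Subgroup G) P, zl (S' : Subgroup G) P'⁆ = line M i ∧
      line M i = line M' i' ∧ ∃ v ∈ fac M i, ∃ w ∈ fac M' i', v * w ≠ w * v := by
  obtain ⟨I, hI⟩ := exists_ind M h.le (h.off hc hT')
  obtain ⟨I', hI'⟩ := exists_ind M' h.le' (h.symm.off hc hT)
  have hVP : zl (S' : Subgroup G) P' ≤ P := h.le.trans h.star.le
  have hVP' : zl (S : Subgroup G) P ≤ P' := h.le'.trans h.star'.le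
  obtain ⟨i, hIi, hi⟩ := hI.eq_line hVP hq
  obtain ⟨i', -, hl, hact⟩ := exists_match hI hI' hVP hVP' (by omega) (i := i) (by rw [hIi]; rfl)
  refine ⟨i, i', hi, hl, ?_⟩
  obtain ⟨v, hv, hve⟩ := exists_fac M i ![0, 1]
  obtain ⟨c, hcj, -, hca⟩ := hact v hv (by rw [hve]; exact one_ne_zero)
  obtain ⟨a, ha, hae⟩ := exists_fac M' i' ![0, 1]
  refine ⟨v, hv, a, ha, ?_⟩
  intro h0
  have h1 := (e_comm ha.1 (hVP' hv.1) hca i').2.1
  have h2 : ⁅a, v⁆ = 1 := commutatorElement_eq_one_iff_mul_comm.2 h0.symm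
  rw [h2, e_one, hae] at h1
  apply hcj
  have h3 : (0 : F') = -(c i' * 1) := h1
  rw [mul_one] at h3
  exact neg_eq_zero.1 h3.symm

/-- CASE 1 on both sides: the same number of factors -/
theorem card_eq_of_syl (h : Pair S S' P P') (M : NatK F (S : Subgroup G) P (zl (S : Subgroup G) P) ⊥ k)
    (M' : NatK F' (S' : Subgroup G) P' (zl (S' : Subgroup G) P') ⊥ k') {i : Fin k} {i' : Fin k'}
    (hl : line M i = line M' i') (hd : ¬ 2 ∣ (stab M i).relIndex (normalizer (line M i : Set G)))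
    (hd' : ¬ 2 ∣ (stab M' i').relIndex (normalizer (line M' i' : Set G))) : k = k' := by
  have hSP : (S : Subgroup G) ≤ P := h.star.isLoc.le
  have hSP' : (S' : Subgroup G) ≤ P' := h.star'.isLoc.le
  have h1 : stab M' i' ≤ normalizer (line M i : Set G) := by
    rw [hl]
    exact stab_normalizes_line M' hSP' i'
  have h2 : stab M i ≤ normalizer (line M' i' : Set G) := by
    rw [← hl]
    exact stab_normalizes_line M hSP i
  have h3 := SideOf.card_dvd_of (stab_normalizes_line M hSP i) hd (S'.isPGroup'.to_le (stab_le M' i')) h1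
  have h4 := SideOf.card_dvd_of (stab_normalizes_line M' hSP' i') hd' (S.isPGroup'.to_le (stab_le M i)) h2
  have h5 := Nat.dvd_antisymm h3 h4
  have h6 := card_stab M hSP i
  have h7 := card_stab M' hSP' i'
  have h8 : Nat.card (S : Subgroup G) = Nat.card (S' : Subgroup G) := by
    have : Fact (Nat.Prime 2) := ⟨Nat.prime_two⟩
    rw [S.card_eq_multiplicity, S'.card_eq_multiplicity]
  rw [h6, h7, h5] at h8
  exact Nat.eq_of_mul_eq_mul_right Nat.card_pos h8

end pair

/-! ### The Props -/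

/-- The data of CASE 1, unmixed: `T = stab M i`, `V_i = fac M i`, `R = line M i`. -/
structure Ent (K : Cls.{u}) {G : Type u} [Group G] [Finite G] (S : Sylow 2 G) (P : Subgroup G) {F : Type} [Field F]
    [Finite F] [CharP F 2] {k : ℕ} (M : NatK F (S : Subgroup G) P (zl (S : Subgroup G) P) ⊥ k) (i : Fin k)
    (N : NatMod F (fac M i)) : Prop where
  hyp : Hyp K S
  four : BFour M i
  /-- the coordinates -/
  e : ∀ x, M.e (N.e x) i = x
  line : N.line ![1, 0] = line M i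
  /-- `T` is a Sylow 2-subgroup of `N_G(V_i)` -/
  syl : ¬ 2 ∣ (stab M i).relIndex (normalizer (fac M i : Set G))
  bts : BTwo.BTS (fac M i) (BTwo.pt N)
  cen : ∀ j, j ≠ i → fac M j ≤ BTwo.CenX (fac M i) (BTwo.pt N)

/-- CASE 1, unmixed, two factors, is impossible (literally `IId.NoEnt K` of `IId/Fin.lean`, `WrMain4`). -/
def NoTwoEnt (K : Cls.{u}) : Prop :=
  ∀ (G : Type u) [Group G] [Finite G] (S : Sylow 2 G) (P : Subgroup G) (F : Type) [Field F] [Finite F]
    [CharP F 2] (M : NatK F (S : Subgroup G) P (zl (S : Subgroup G) P) ⊥ 2) (i j : Fin 2)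
    (N : NatMod F (fac M i)), ¬ FourSide.Ent K S P M i j N

/-- CASE 1, unmixed, more than two factors, is impossible: `|CenX| ≥ q⁴`. -/
def NoBigEnt (K : Cls.{u}) : Prop :=
  ∀ (G : Type u) [Group G] [Finite G] (S : Sylow 2 G) (P : Subgroup G) (F : Type) [Field F] [Finite F]
    [CharP F 2] (k : ℕ) (M : NatK F (S : Subgroup G) P (zl (S : Subgroup G) P) ⊥ k) (i : Fin k)
    (N : NatMod F (fac M i)), 2 < k → ¬ Ent K S P M i N

/-- The side `M i` is mixed: `⟨V_i^{N_G(R)}⟩` is abelian. -/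
def MixSide {G : Type u} [Group G] {F : Type} [Field F] {S P : Subgroup G} {k : ℕ}
    (M : NatK F S P (zl S P) ⊥ k) (i : Fin k) : Prop :=
  ∀ g ∈ normalizer (line M i : Set G), ∀ v ∈ fac M i, ∀ w ∈ fac M i, v * (g * w * g⁻¹) = g * w * g⁻¹ * v

/-- **CASE 2** for `q ≥ 4`, `k > 2`. -/
def CaseTwo (K : Cls.{u}) : Prop :=
  ∀ (G : Type u) [Group G] [Finite G] (S S' : Sylow 2 G), Hyp K S → ∀ (P P' : Subgroup G), Pair S S' P P' →
    ∀ (F F' : Type) [Field F] [Finite F] [CharP F 2] [Field F'] [Finite F'] [CharP F' 2] (k k' : ℕ)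
      (M : NatK F (S : Subgroup G) P (zl (S : Subgroup G) P) ⊥ k)
      (M' : NatK F' (S' : Subgroup G) P' (zl (S' : Subgroup G) P') ⊥ k') (i : Fin k) (i' : Fin k'),
      2 < k → 1 ≤ k' → 4 ≤ Nat.card F → Nat.card F' = Nat.card F → CC M → CC M' →
      ⁅zl (S : Subgroup G) P, zl (S' : Subgroup G) P'⁆ = line M i → line M i = line M' i' →
      (∃ v ∈ fac M i, ∃ w ∈ fac M' i', v * w ≠ w * v) →
      (¬ 2 ∣ (stab M i).relIndex (normalizer (line M i : Set G)) → MixSide M i) →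
      (2 ≤ k' → ¬ 2 ∣ (stab M' i').relIndex (normalizer (line M' i' : Set G)) → MixSide M' i') →
      2 ∣ (stab M i).relIndex (normalizer (line M i : Set G)) ∨
        2 ∣ (stab M' i').relIndex (normalizer (line M' i' : Set G)) → IsKnownSimple' G

variable {K : Cls.{u}}

/-- The unmixed case, CASE 1. -/
theorem exists_ent {G : Type u} [Group G] [Finite G] {S : Sylow 2 G} {P : Subgroup G} {F : Type}
    [Field F] [Finite F] [CharP F 2] {k : ℕ} {M : NatK F (S : Subgroup G) P (zl (S : Subgroup G) P) ⊥ k} {i : Fin k}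
    (hH : Hyp K S) (h : BFour M i) (hne : ¬ MixSide M i) : ∃ N : NatMod F (fac M i), Ent K S P M i N := by
  unfold MixSide at hne
  push Not at hne
  obtain ⟨g, hg, v, hv, w, hw, hvw⟩ := hne
  obtain ⟨N, hNe, hNl, b, hc⟩ := h.bts hg ⟨v, hv, w, hw, hvw⟩
  exact ⟨N, hH, h, hNe, hNl, h.syl_fac, b, hc⟩

/-- A side in CASE 1 with at least two factors is mixed. -/
theorem mix_of (hE : NoTwoEnt K) (hB : NoBigEnt K) {G : Type u} [Group G] [Finite G] {S : Sylow 2 G} {P : Subgroup G}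
    {F : Type} [Field F] [Finite F] [CharP F 2] {k : ℕ} (hk : 2 ≤ k)
    {M : NatK F (S : Subgroup G) P (zl (S : Subgroup G) P) ⊥ k} {i : Fin k} (hH : Hyp K S)
    (h : BFour M i) : MixSide M i := by
  by_contra hne
  rcases Nat.lt_or_ge 2 k with h2 | h2
  · obtain ⟨N, hN⟩ := exists_ent hH h hne
    exact hB G S P F k M i N h2 hN
  · obtain rfl : k = 2 := le_antisymm h2 hk
    unfold MixSide at hne
    push Not at hne
    obtain ⟨j, hij⟩ : ∃ j : Fin 2, i ≠ j := ⟨i + 1, by omega⟩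
    obtain ⟨N, hN⟩ := FourSide.exists_ent hH ⟨h.c2T, h.par, h.q4, h.syl⟩ hij hne
    exact hE G S P F M i j N hN

/-- **`WrBigFour K` from the parts.** -/
theorem wrBigFour_of (hC : ThmC.{u}) (hE : NoTwoEnt K) (hB : NoBigEnt K) (h2 : CaseTwo K) : WrBigFour K := by
  intro G _ _ S S' hH P P' hp F F' _ _ _ _ _ _ k k' M M' hk hk' h4 hF hq
  have hc := hH.ctx.char2
  obtain ⟨t, t'⟩ := hH.typed' hp
  obtain ⟨i, i', hi, hl, hne⟩ := exists_sides hc hp t.noOver t'.noOver M M' hk' hq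
  have hCM : CC M := hC G hc S P hp.star F k M
  have hCM' : CC M' := hC G hc S' P' hp.star' F' k' M'
  have h4' : 4 ≤ Nat.card F' := by rw [hF]; exact h4
  have hm : ¬ 2 ∣ (stab M i).relIndex (normalizer (line M i : Set G)) → MixSide M i := fun hd =>
    mix_of hE hB (by omega) hH ⟨hc, hp.star, hCM, h4, hd⟩
  have hm' : 2 ≤ k' → ¬ 2 ∣ (stab M' i').relIndex (normalizer (line M' i' : Set G)) → MixSide M' i' :=
    fun hk2 hd => mix_of hE hB hk2 (hH.conj S') ⟨hc, hp.star', hCM', h4', hd⟩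
  by_cases hd : 2 ∣ (stab M i).relIndex (normalizer (line M i : Set G)) ∨
      2 ∣ (stab M' i').relIndex (normalizer (line M' i' : Set G))
  · exact h2 G S S' hH P P' hp F F' k k' M M' i i' hk hk' h4 hF hCM hCM' hi hl hne hm hm' hd
  · exfalso
    push Not at hd
    have hkk := card_eq_of_syl hp M M' hl hd.1 hd.2
    have g1 := hm hd.1
    have g2 := hm' (by omega) hd.2
    obtain ⟨j, hj⟩ : ∃ j : Fin k, j ≠ i := by
      have : Nontrivial (Fin k) := Fin.nontrivial_iff_two_le.2 (by omega)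
      exact exists_ne i
    have b : BFour M i := ⟨hc, hp.star, hCM, h4, hd.1⟩
    have b' : BFour M' i' := ⟨hc, hp.star', hCM', h4', hd.2⟩
    refine mixed_false b b' hl hne g1 ?_ hj
    rw [hl]
    exact g2

end Cfsg.Agent.Omega.IId.BigFour

end

section


/-!
# II.d, `BigFour.CaseTwo`: partners (helper873)

`M : NatK F S P (zl S P) ⊥ k`, `Q_R = O₂(N_G(R))`, `K_R = KR R` for a line `R` of a factor (`R ∈ Lns.lns M j`).

* `Ptn V R W` : `W ≤ K_R`, `Q_R` acts on `V` as `W` does and on `W` as `V` does, `W` induces on `V` the full root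
  group with centre `R`;
* `Ptn.of_pair` : `fac M' i'` is a partner of `fac M i` over `line M i = line M' i'`;
* `Cx M` : all lines of all factors have partners;
* `Cx.cu` : the lemma (CU); `Cx.hV` : `Z(Q_R) ∩ C(O₂(P)) ≤ V` for `R = line M i`.
-/

set_option autoImplicit false
set_option linter.unusedSectionVars false

namespace Cfsg.Agent.Omega.IId.BigFour.SylPt

open Subgroup Cfsg Cfsg.Agent.ZN.ChoiceBase
open Cfsg.Agent.ZN (o2 zc zl)
open Cfsg.Agent.Omega.MinPar Cfsg.Agent.Omega.FFThm Cfsg.Agent.Omega.Frame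
open Cfsg.Agent.Lib.SL2Mat
open Cfsg.Agent.Omega.NatPair (ap ap_mul ap_one ap_inv_ap ap_ap_inv exists_ap ap_add)
open Cfsg.Agent.MinSimple.VModule (o2_isPGroup)
open Cfsg.Agent.Omega.IId.SideOf (KR KR_le_o2 mem_KR le_normalizer_KR isPGroup_of_sq line_sq exists_zc)
open Cfsg.Agent.Omega.IId.Lns

universe u

section ptn

variable {G : Type u} [Group G]

/-- `W` is a partner of `V` over `R`. -/
structure Ptn (V R W : Subgroup G) : Prop where
  WK : W ≤ KR R
  onV : ∀ x ∈ o2 (normalizer (R : Set G)), ∃ w ∈ W, ∀ v ∈ V, x * w * v = v * (x * w)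
  onW : ∀ x ∈ o2 (normalizer (R : Set G)), ∃ v ∈ V, ∀ w ∈ W, x * v * w = w * (x * v)
  full : ∀ v ∈ V, v ∉ R → ∀ r ∈ R, ∃ w ∈ W, w * v * w⁻¹ * v⁻¹ = r

theorem cj_o2 (g : G) (L : Subgroup G) : cj g (o2 L) = o2 (cj g L) :=
  Cfsg.Agent.MinSimple.Geo.cj_o2 g L

theorem cj_o2N (g : G) (R : Subgroup G) :
    cj g (o2 (normalizer (R : Set G))) = o2 (normalizer (cj g R : Set G)) := by
  rw [cj_o2, cj_normalizer]

theorem cj_KR (g : G) (R : Subgroup G) : cj g (KR R) = KR (cj g R) := by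
  have key : ∀ (g : G) (R : Subgroup G), cj g (KR R) ≤ KR (cj g R) := by
    intro g R x hx
    rw [mem_cj, mem_KR] at hx
    rw [mem_KR]
    refine ⟨?_, fun y hy => ?_⟩
    · rw [mem_centralizer_iff]
      intro r hr
      have h1 := mem_centralizer_iff.1 hx.1 (g⁻¹ * r * g) (mem_cj.1 hr)
      calc r * x = g * (g⁻¹ * r * g * (g⁻¹ * x * g)) * g⁻¹ := by group
        _ = g * (g⁻¹ * x * g * (g⁻¹ * r * g)) * g⁻¹ := by rw [h1]
        _ = x * r := by group
    · rw [← cj_o2N, mem_cj] at hy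
      have h1 := hx.2 _ hy
      rw [mem_cj]
      have e : g⁻¹ * (x * y * x⁻¹ * y⁻¹) * g =
          g⁻¹ * x * g * (g⁻¹ * y * g) * (g⁻¹ * x * g)⁻¹ * (g⁻¹ * y * g)⁻¹ := by group
      rw [e]
      exact h1
  refine le_antisymm (key g R) ?_
  have h1 := key g⁻¹ (cj g R)
  rw [cj_inv_cj] at h1
  have h2 := cj_mono g h1
  rwa [cj_cj_inv] at h2

theorem Ptn.conj {V R W : Subgroup G} (h : Ptn V R W) (g : G) : Ptn (cj g V) (cj g R) (cj g W) where
  WK := by
    rw [← cj_KR]
    exact cj_mono g h.WK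
  onV x hx := by
    rw [← cj_o2N, mem_cj] at hx
    obtain ⟨w, hw, h1⟩ := h.onV _ hx
    refine ⟨g * w * g⁻¹, mem_cj.2 (by rwa [show g⁻¹ * (g * w * g⁻¹) * g = w by group]), fun v hv => ?_⟩
    have h2 := h1 _ (mem_cj.1 hv)
    calc x * (g * w * g⁻¹) * v = g * (g⁻¹ * x * g * w * (g⁻¹ * v * g)) * g⁻¹ := by group
      _ = g * (g⁻¹ * v * g * (g⁻¹ * x * g * w)) * g⁻¹ := by rw [h2]
      _ = v * (x * (g * w * g⁻¹)) := by group
  onW x hx := by
    rw [← cj_o2N, mem_cj] at hx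
    obtain ⟨w, hw, h1⟩ := h.onW _ hx
    refine ⟨g * w * g⁻¹, mem_cj.2 (by rwa [show g⁻¹ * (g * w * g⁻¹) * g = w by group]), fun v hv => ?_⟩
    have h2 := h1 _ (mem_cj.1 hv)
    calc x * (g * w * g⁻¹) * v = g * (g⁻¹ * x * g * w * (g⁻¹ * v * g)) * g⁻¹ := by group
      _ = g * (g⁻¹ * v * g * (g⁻¹ * x * g * w)) * g⁻¹ := by rw [h2]
      _ = v * (x * (g * w * g⁻¹)) := by group
  full v hv hvR r hr := by
    obtain ⟨w, hw, h1⟩ := h.full _ (mem_cj.1 hv) (fun h2 => hvR (mem_cj.2 h2)) _ (mem_cj.1 hr)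
    refine ⟨g * w * g⁻¹, mem_cj.2 (by rwa [show g⁻¹ * (g * w * g⁻¹) * g = w by group]), ?_⟩
    calc g * w * g⁻¹ * v * (g * w * g⁻¹)⁻¹ * v⁻¹ = g * (w * (g⁻¹ * v * g) * w⁻¹ * (g⁻¹ * v * g)⁻¹) * g⁻¹ := by
          group
      _ = g * (g⁻¹ * r * g) * g⁻¹ := by rw [h1]
      _ = r := by group

end ptn

section pair

variable {G : Type u} [Group G] [Finite G] {F F' : Type} [Field F] [Finite F] [CharP F 2]
  [Field F'] [Finite F'] [CharP F' 2] {S S' : Sylow 2 G} {P P' : Subgroup G} {k k' : ℕ}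
  {M : NatK F (S : Subgroup G) P (zl (S : Subgroup G) P) ⊥ k}
  {M' : NatK F' (S' : Subgroup G) P' (zl (S' : Subgroup G) P') ⊥ k'} {i : Fin k} {i' : Fin k'}

/-- Every `x ∈ Q_R` acts on `V_i` as some element of `A ≤ Q_R`, if `A` induces `q` elements. -/
theorem act_of_card (h : BOne M i) {A : Subgroup G} (hA : A ≤ o2 (normalizer (line M i : Set G)))
    (hc : Nat.card F * Nat.card ↥(A ⊓ centralizer (fac M i : Set G)) ≤ Nat.card A) :
    ∀ x ∈ o2 (normalizer (line M i : Set G)), ∃ w ∈ A, ∀ v ∈ fac M i, x * w * v = v * (x * w) := by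
  classical
  choose! b hb using fun w (hw : w ∈ o2 (normalizer (line M i : Set G))) => h.o2_up hw
  have hmul : ∀ x ∈ o2 (normalizer (line M i : Set G)), ∀ y ∈ o2 (normalizer (line M i : Set G)),
      b (x * y) = b x + b y := by
    intro x hx y hy
    obtain ⟨v, hv, hve⟩ := exists_fac M i ![0, 1]
    have hyv : y * v * y⁻¹ ∈ fac M i := (mem_normalizer_iff.1 (stab_normalizes M i (h.QT hy)) v).1 hv
    have h1 := hb _ (mul_mem hx hy) v hv
    have h2 := hb x hx _ hyv
    rw [hb y hy v hv] at h2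
    have e : x * (y * v * y⁻¹) * x⁻¹ = x * y * v * (x * y)⁻¹ := by group
    rw [e, h1, hve] at h2
    have h3 := congrFun h2 0
    simpa [NatPair.ap_zero', NatPair.ap_one', up_00, up_01, up_10, up_11, add_comm] using h3
  have hker : ∀ x ∈ o2 (normalizer (line M i : Set G)), b x = 0 → ∀ v ∈ fac M i, x * v = v * x := by
    intro x hx h0 v hv
    have h1 := hb x hx v hv
    rw [h0, up_zero, NatPair.ap_one] at h1
    have h2 : x * v * x⁻¹ = v :=
      ext_fac M ((mem_normalizer_iff.1 (stab_normalizes M i (h.QT hx)) v).1 hv) hv h1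
    calc x * v = x * v * x⁻¹ * x := by group
      _ = v * x := by rw [h2]
  -- the homomorphism `A → F`
  let φ : A →* Multiplicative F :=
    { toFun := fun a => Multiplicative.ofAdd (b a)
      map_one' := by
        have := hmul 1 (one_mem _) 1 (one_mem _)
        rw [mul_one] at this
        have h0 : b 1 = 0 := by simpa using this
        change Multiplicative.ofAdd (b ((1 : A) : G)) = 1
        rw [OneMemClass.coe_one, h0]
        rfl
      map_mul' := fun a c => by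
        change Multiplicative.ofAdd (b ((a * c : A) : G)) = _
        rw [Subgroup.coe_mul, hmul _ (hA a.2) _ (hA c.2)]
        rfl }
  have hk : φ.ker.map A.subtype ≤ A ⊓ centralizer (fac M i : Set G) := by
    rintro _ ⟨a, ha, rfl⟩
    refine mem_inf.2 ⟨a.2, ?_⟩
    rw [mem_centralizer_iff]
    intro v hv
    exact (hker _ (hA a.2) (Multiplicative.ofAdd.injective (MonoidHom.mem_ker.1 ha)) v hv).symm
  have hsurj : Function.Surjective φ := by
    have h1 : Nat.card φ.ker ≤ Nat.card ↥(A ⊓ centralizer (fac M i : Set G)) := by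
      rw [← Subgroup.card_map_of_injective (K := φ.ker) A.subtype_injective]
      exact Nat.card_le_card_of_injective _ (inclusion_injective hk)
    have h2 : Nat.card φ.range * Nat.card φ.ker = Nat.card A := by
      rw [mul_comm, ← Subgroup.card_mul_index φ.ker, Subgroup.index_ker]
    have h3 : Nat.card F ≤ Nat.card φ.range := by
      have hpos : 0 < Nat.card φ.ker := Nat.card_pos
      have h4 : Nat.card F * Nat.card φ.ker ≤ Nat.card φ.range * Nat.card φ.ker := by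
        rw [h2]
        exact (Nat.mul_le_mul_left _ h1).trans hc
      exact Nat.le_of_mul_le_mul_right h4 hpos
    have h4 : φ.range = ⊤ := Subgroup.eq_top_of_le_card _ (by
      have : Nat.card (Multiplicative F) = Nat.card F := Nat.card_congr Multiplicative.toAdd
      rw [this]
      exact h3)
    exact MonoidHom.range_eq_top.1 h4
  intro x hx
  obtain ⟨⟨w, hw⟩, hwx⟩ := hsurj (Multiplicative.ofAdd (- b x))
  have hwx' : b w = - b x := Multiplicative.ofAdd.injective hwx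
  refine ⟨w, hw, hker _ (mul_mem hx (hA hw)) ?_⟩
  rw [hmul x hx w (hA hw), hwx', add_neg_cancel]

/-- `C_{V_i}(x) ≤ R` for `x ∈ Q_R` moving `V_i`. -/
theorem mem_line_of_comm (h : BOne M i) {x : G} (hx : x ∈ o2 (normalizer (line M i : Set G)))
    (hne : ∃ v ∈ fac M i, v * x ≠ x * v) {v : G} (hv : v ∈ fac M i) (hc : v * x = x * v) : v ∈ line M i := by
  obtain ⟨b, hb⟩ := h.o2_up hx
  have hxn := stab_normalizes M i (h.QT hx)
  have hb0 : b ≠ 0 := by
    rintro rfl
    obtain ⟨u, hu, hux⟩ := hne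
    apply hux
    have h1 : x * u * x⁻¹ = u := by
      refine ext_fac M ((mem_normalizer_iff.1 hxn u).1 hu) hu ?_
      rw [hb u hu, up_zero, NatPair.ap_one]
    calc u * x = x * u * x⁻¹ * x := by rw [h1]
      _ = x * u := by group
  rw [mem_line]
  refine ⟨hv, ?_⟩
  have h1 := hb v hv
  rw [← hc, mul_inv_cancel_right] at h1
  have h2 := congrFun h1 0
  rw [NatPair.ap_zero', up_00, up_01, one_mul] at h2
  have h3 : b * M.e v i 1 = 0 := by
    have := h2.symm
    simpa using this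
  exact (mul_eq_zero.1 h3).resolve_left hb0

/-- `fac M' i'` is a partner of `fac M i`. -/
theorem ptn_of_pair (h : BOne M i) (h' : BOne M' i') (hl : line M i = line M' i')
    (hq : Nat.card F' = Nat.card F) (hne : ∃ v ∈ fac M i, ∃ w ∈ fac M' i', v * w ≠ w * v) :
    Ptn (fac M i) (line M i) (fac M' i') := by
  obtain ⟨v0, hv0, w0, hw0, h0⟩ := hne
  have hVQ := h.fac_le_o2
  have hWQ := h'.fac_le_o2
  rw [← hl] at hWQ
  have hVQ' : fac M i ≤ o2 (normalizer (line M' i' : Set G)) := by rw [← hl]; exact hVQ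
  have hWQ' : fac M' i' ≤ o2 (normalizer (line M' i' : Set G)) := h'.fac_le_o2
  -- an element of `V_i` outside of `R` moves `w0`, and conversely
  have k1 : ∀ v ∈ fac M i, v * w0 = w0 * v → v ∈ line M i := fun v hv hc =>
    mem_line_of_comm h (hWQ hw0) ⟨v0, hv0, h0⟩ hv hc
  have k2 : ∀ w ∈ fac M' i', w * v0 = v0 * w → w ∈ line M' i' := fun w hw hc =>
    mem_line_of_comm h' (hVQ' hv0) ⟨w0, hw0, Ne.symm h0⟩ hw hc
  refine ⟨?_, ?_, ?_, ?_⟩
  · rw [hl]
    exact h'.fac_le_KR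
  · refine act_of_card h hWQ ?_
    have h1 : fac M' i' ⊓ centralizer (fac M i : Set G) ≤ line M' i' := by
      rintro w ⟨hw, hwc⟩
      exact k2 w hw (mem_centralizer_iff.1 hwc v0 hv0).symm
    have h2 : Nat.card ↥(fac M' i' ⊓ centralizer (fac M i : Set G)) ≤ Nat.card (line M' i') :=
      Nat.card_le_card_of_injective _ (inclusion_injective h1)
    rw [card_line] at h2
    rw [card_fac, pow_two]
    exact Nat.mul_le_mul hq.ge h2
  · have h1 := act_of_card h' hVQ' (by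
      have h1 : fac M i ⊓ centralizer (fac M' i' : Set G) ≤ line M i := by
        rintro w ⟨hw, hwc⟩
        exact k1 w hw (mem_centralizer_iff.1 hwc w0 hw0).symm
      have h2 : Nat.card ↥(fac M i ⊓ centralizer (fac M' i' : Set G)) ≤ Nat.card (line M i) :=
        Nat.card_le_card_of_injective _ (inclusion_injective h1)
      rw [card_line] at h2
      rw [card_fac, pow_two]
      exact Nat.mul_le_mul hq.le h2)
    rw [← hl] at h1
    exact h1
  · intro v hv hvR r hr
    refine h'.line_le_comm (hVQ' hv) ⟨w0, hw0, fun hc => hvR (k1 v hv hc.symm)⟩ ?_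
    rw [← hl]
    exact hr

end pair


/-! ### The frame -/

section frame

variable {G : Type u} [Group G] [Finite G] {F : Type} [Field F] [Finite F] [CharP F 2]
  {S : Sylow 2 G} {P : Subgroup G} {k : ℕ}

abbrev QR (R : Subgroup G) : Subgroup G := o2 (normalizer (R : Set G))

abbrev UR (R : Subgroup G) : Subgroup G := QR R ⊓ centralizer (QR R : Set G)

theorem part_le_of {F : Type} [Field F] {S P : Subgroup G} (M : NatK F S P (zl S P) ⊥ k) {X : Subgroup G}
    {I : Set (Fin k)} (h : ∀ m ∈ I, fac M m ≤ X) : part M I ≤ X := by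
  classical
  suffices key : ∀ J : Finset (Fin k), (∀ m ∈ J, fac M m ≤ X) → part M (J : Set (Fin k)) ≤ X by
    have h1 := key I.toFinite.toFinset (fun m hm => h m (by simpa using hm))
    rwa [Set.Finite.coe_toFinset] at h1
  intro J
  induction J using Finset.induction_on with
  | empty =>
    intro _
    rw [Finset.coe_empty, part_empty]
    exact bot_le
  | insert m J hm ih =>
    intro hJ v hv
    obtain ⟨a, ha, h1, h2⟩ := exists_component M hv.1 m
    have h3 : a⁻¹ * v ∈ part M (J : Set (Fin k)) := by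
      refine ⟨h2.1, fun j hj => ?_⟩
      by_cases hjm : j = m
      · rw [hjm]
        exact h2.2 m (by simp)
      · rw [M.mul _ (inv_mem ha.1) _ hv.1, e_inv M ha.1, Pi.add_apply, Pi.neg_apply, ha.2 j hjm,
          hv.2 j (by simpa [hjm] using hj), neg_zero, add_zero]
    have h4 := mul_mem (hJ m (Finset.mem_insert_self _ _) ha)
      (ih (fun m' hm' => hJ m' (Finset.mem_insert_of_mem hm')) h3)
    rwa [mul_inv_cancel_left] at h4

theorem zl_le_of {F : Type} [Field F] {S P : Subgroup G} (M : NatK F S P (zl S P) ⊥ k) {X : Subgroup G}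
    (h : ∀ m, fac M m ≤ X) : zl S P ≤ X := by
  rw [← part_univ M]
  exact part_le_of M fun m _ => h m

/-- All lines of all factors have partners. -/
structure Cx (M : NatK F (S : Subgroup G) P (zl (S : Subgroup G) P) ⊥ k) : Prop where
  c2T : IsCharacteristicTwoType G
  par : IsParS (S : Subgroup G) P
  cc : CC M
  ptn : ∀ j, ∀ R ∈ lns M j, ∃ W, Ptn (fac M j) R W

theorem Cx.of_ptn {M : NatK F (S : Subgroup G) P (zl (S : Subgroup G) P) ⊥ k} (hc : IsCharacteristicTwoType G)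
    (hP : IsParS (S : Subgroup G) P) (hC : CC M) {i : Fin k} {W : Subgroup G} (hW : Ptn (fac M i) (line M i) W) :
    Cx M where
  c2T := hc
  par := hP
  cc := hC
  ptn := by
    rintro j _ ⟨l, hl, rfl⟩
    have hSP : (S : Subgroup G) ≤ P := hP.isLoc.le
    obtain ⟨s, hs, h1⟩ := exists_trans M hSP i j
    have h2 : cj s (line M i) = line M j := by
      rw [conj_line M hSP hs]
      congr 1
      rw [sg_eq_iff]
      exact h1
    have h3 : cj l (fac M j) = fac M j := mem_normalizer_iff_cj.1 (grp_normalizes M {j} {j} hl)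
    refine ⟨cj l (cj s W), ?_⟩
    have h4 := (hW.conj s).conj l
    rwa [h1, h2, h3] at h4

namespace Cx

variable {M : NatK F (S : Subgroup G) P (zl (S : Subgroup G) P) ⊥ k} (h : Cx M)
include h

theorem one (j : Fin k) : BOne M j := BOne.of h.c2T h.par h.cc j

theorem le : (S : Subgroup G) ≤ P := h.par.isLoc.le

omit [Finite F] [CharP F 2] h [Finite G] in
theorem cj_fac {j : Fin k} {l : G} (hl : l ∈ grp M {j}) (m : Fin k) : cj l (fac M m) = fac M m :=
  mem_normalizer_iff_cj.1 (grp_normalizes M {j} {m} hl)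

theorem QR_le {j : Fin k} {R : Subgroup G} (hR : R ∈ lns M j) : QR R ≤ P := by
  obtain ⟨l, hl, rfl⟩ := hR
  rw [QR, ← cj_o2N]
  refine (cj_mono l ((h.one j).QT.trans ((stab_le M j).trans h.le))).trans ?_
  rw [mem_normalizer_iff_cj.1 (le_normalizer (grp_le M _ hl))]

theorem QR_cent {j m : Fin k} (hm : m ≠ j) {R : Subgroup G} (hR : R ∈ lns M j) :
    QR R ≤ centralizer (fac M m : Set G) := by
  obtain ⟨l, hl, rfl⟩ := hR
  rw [QR, ← cj_o2N, ← cj_fac hl m, ← cj_centralizer]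
  apply cj_mono
  rw [le_centralizer_iff]
  exact h.cc j m hm

theorem QR_centR {j : Fin k} {R : Subgroup G} (hR : R ∈ lns M j) : QR R ≤ centralizer (R : Set G) := by
  obtain ⟨l, hl, rfl⟩ := hR
  rw [QR, ← cj_o2N, ← cj_centralizer]
  exact cj_mono l (h.one j).o2_cent_line

theorem fac_le_QR {j : Fin k} {R : Subgroup G} (hR : R ∈ lns M j) (m : Fin k) : fac M m ≤ QR R := by
  obtain ⟨l, hl, rfl⟩ := hR
  rw [QR, ← cj_o2N, ← cj_fac hl m]
  exact cj_mono l ((h.one j).all_le m)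

theorem V_le_QR {j : Fin k} {R : Subgroup G} (hR : R ∈ lns M j) : zl (S : Subgroup G) P ≤ QR R :=
  zl_le_of M fun m => h.fac_le_QR hR m

/-- `Q_R` centralises `V^j`. -/
theorem QR_comm {j : Fin k} {R : Subgroup G} (hR : R ∈ lns M j) {x v : G} (hx : x ∈ QR R)
    (hv : v ∈ part M {j}ᶜ) : x * v = v * x := by
  have h1 : part M {j}ᶜ ≤ centralizer (QR R : Set G) := by
    refine part_le_of M fun m hm => ?_
    rw [le_centralizer_iff]
    exact h.QR_cent (by simpa using hm) hR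
  exact mem_centralizer_iff.1 (h1 hv) x hx

theorem comm_mem {j : Fin k} {R : Subgroup G} (hR : R ∈ lns M j) {x v : G} (hx : x ∈ QR R)
    (hv : v ∈ fac M j) : x * v * x⁻¹ * v⁻¹ ∈ R := by
  obtain ⟨l, hl, rfl⟩ := hR
  rw [QR, ← cj_o2N, mem_cj] at hx
  rw [← cj_fac hl j, mem_cj] at hv
  have h1 := (h.one j).comm_fac _ hv _ hx
  rw [mem_cj]
  have e : l⁻¹ * (x * v * x⁻¹ * v⁻¹) * l =
      l⁻¹ * x * l * (l⁻¹ * v * l) * (l⁻¹ * x * l)⁻¹ * (l⁻¹ * v * l)⁻¹ := by group
  rw [e]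
  exact h1

theorem R_ne {j : Fin k} {R : Subgroup G} (hR : R ∈ lns M j) : R ≠ ⊥ := by
  obtain ⟨l, hl, rfl⟩ := hR
  intro h1
  apply line_ne_bot (M := M) j
  rw [← cj_inv_cj l (line M j), h1]
  exact Subgroup.map_bot _

theorem card_R {j : Fin k} {R : Subgroup G} (hR : R ∈ lns M j) : Nat.card R = Nat.card F := by
  obtain ⟨l, hl, rfl⟩ := hR
  rw [card_cj, card_line]

theorem KR_le_QR {j : Fin k} {R : Subgroup G} (hR : R ∈ lns M j) : KR R ≤ QR R :=
  KR_le_o2 h.c2T (h.R_ne hR) fun _ hx => sq M (fac_le M j (lns_le hR hx))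

theorem V_le_KR {j : Fin k} {R : Subgroup G} (hR : R ∈ lns M j) : zl (S : Subgroup G) P ≤ KR R := by
  refine zl_le_of M fun m v hv => ?_
  rw [mem_KR]
  refine ⟨?_, fun x hx => ?_⟩
  · rw [mem_centralizer_iff]
    intro r hr
    exact comm M (fac_le M j (lns_le hR hr)) (fac_le M m hv)
  · by_cases hm : m = j
    · subst hm
      have h1 := h.comm_mem hR hx hv
      have e : v * x * v⁻¹ * x⁻¹ = (x * v * x⁻¹ * v⁻¹)⁻¹ := by group
      rw [e]
      exact inv_mem h1
    · have h1 := mem_centralizer_iff.1 (h.QR_cent hm hR hx) v hv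
      rw [h1, mul_inv_cancel_right, mul_inv_cancel]
      exact one_mem _

theorem comm_V {j : Fin k} {R : Subgroup G} (hR : R ∈ lns M j) {x v : G} (hx : x ∈ QR R)
    (hv : v ∈ zl (S : Subgroup G) P) : x * v * x⁻¹ * v⁻¹ ∈ R := by
  have h1 := (mem_KR.1 (h.V_le_KR hR hv)).2 x hx
  have e : x * v * x⁻¹ * v⁻¹ = (v * x * v⁻¹ * x⁻¹)⁻¹ := by group
  rw [e]
  exact inv_mem h1

/-! #### `Q = O₂(P)` -/

theorem o2S : o2 P ≤ (S : Subgroup G) :=
  MinSimple.VModule.o2_le_of_sylow S.isPGroup' (MinSimple.Basic.not_dvd_relIndex S h.le)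

theorem cent_Q : centralizer (o2 P : Set G) ≤ o2 P := by
  have h1 : o2 P ≠ ⊥ := h.par.isLoc.o2_ne
  have h2 : o2 (normalizer (o2 P : Set G)) = o2 P := by
    apply le_antisymm
    · have h3 : (S : Subgroup G) ≤ normalizer (o2 P : Set G) := h.le.trans (ZN.le_normalizer_o2 P)
      have h4 : o2 (normalizer (o2 P : Set G)) ≤ P :=
        (MinSimple.VModule.o2_le_of_sylow S.isPGroup' (MinSimple.Basic.not_dvd_relIndex S h3)).trans h.le
      exact ZN.le_o2 h4 (o2_isPGroup _) ((ZN.le_normalizer_o2 P).trans (ZN.le_normalizer_o2 _))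
    · exact ZN.le_o2 le_normalizer (o2_isPGroup P) le_rfl
  have h3 := MinSimple.Basic.char2_normalizer h.c2T (o2_isPGroup P) h1
  rw [h2] at h3
  exact fun x hx => h3 ⟨centralizer_le_normalizer _ hx, hx⟩

theorem Q_cent : o2 P ≤ centralizer (zl (S : Subgroup G) P : Set G) :=
  MinSimple.VModule.o2_le_centralizer_zl h.le S.isPGroup' (MinSimple.Basic.not_dvd_relIndex S h.le)
    (inf_le_right.trans h.cent_Q)

theorem V_le_Q : zl (S : Subgroup G) P ≤ o2 P := by
  refine le_trans ?_ h.cent_Q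
  rw [le_centralizer_iff]
  exact h.Q_cent

theorem le_Q {N : Subgroup G} (h2 : IsPGroup 2 N) (hN : N ≤ centralizer (zl (S : Subgroup G) P : Set G))
    (hn : centralizer (zl (S : Subgroup G) P : Set G) ≤ normalizer (N : Set G)) : N ≤ o2 P := by
  set C := centralizer (zl (S : Subgroup G) P : Set G) with hC
  have h1 : N ≤ o2 C := ZN.le_o2 hN h2 hn
  have h3 : P ≤ normalizer (o2 C : Set G) := by
    intro g hg
    rw [mem_normalizer_iff_cj, cj_o2]
    congr 1
    rw [hC, cj_centralizer, mem_normalizer_iff_cj.1 (MinSimple.VModule.le_normalizer_zl _ _ hg)]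
  have h4 : o2 C ≤ (S : Subgroup G) := le_of_le_normalizer S (o2_isPGroup _) (h.le.trans h3)
  exact h1.trans (ZN.le_o2 (h4.trans h.le) (o2_isPGroup _) h3)

theorem centV_le {j : Fin k} {R : Subgroup G} (hR : R ∈ lns M j) :
    centralizer (zl (S : Subgroup G) P : Set G) ≤ normalizer (R : Set G) :=
  (centralizer_le ((lns_le hR).trans (fac_le M j))).trans (centralizer_le_normalizer _)

theorem QRc_le_Q {j : Fin k} {R : Subgroup G} (hR : R ∈ lns M j) :
    QR R ⊓ centralizer (zl (S : Subgroup G) P : Set G) ≤ o2 P := by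
  refine h.le_Q ((o2_isPGroup _).to_le inf_le_left) inf_le_right ?_
  exact Half.le_normalizer_inf ((h.centV_le hR).trans (ZN.le_normalizer_o2 _)) le_normalizer

theorem UR_le_Q {j : Fin k} {R : Subgroup G} (hR : R ∈ lns M j) : UR R ≤ o2 P :=
  (inf_le_inf_left _ (centralizer_le (h.V_le_QR hR))).trans (h.QRc_le_Q hR)

/-- (F) -/
theorem F_of {j m : Fin k} (hjm : m ≠ j) {R R' : Subgroup G} (hR : R ∈ lns M j) (hR' : R' ∈ lns M m) {y : G}
    (hy : y ∈ UR R') (hyc : ∀ u ∈ UR R, y * u = u * y) : y ∈ QR R := by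
  set C := centralizer (UR R : Set G) with hC
  have hRU : R ≤ UR R := by
    refine le_inf (((lns_le hR).trans (fac_le M j)).trans (h.V_le_QR hR)) ?_
    rw [le_centralizer_iff]
    exact h.QR_centR hR
  have hmU : fac M m ≤ UR R := by
    refine le_inf (h.fac_le_QR hR m) ?_
    rw [le_centralizer_iff]
    exact h.QR_cent hjm hR
  have hCH : C ≤ normalizer (R : Set G) := (centralizer_le hRU).trans (centralizer_le_normalizer _)
  have hCH' : C ≤ normalizer (R' : Set G) :=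
    (centralizer_le ((lns_le hR').trans hmU)).trans (centralizer_le_normalizer _)
  have hnQ : ∀ {R : Subgroup G}, normalizer (R : Set G) ≤ normalizer (QR R : Set G) := fun {R} =>
    ZN.le_normalizer_o2 _
  have hnC : ∀ X : Subgroup G, normalizer (X : Set G) ≤ normalizer (centralizer (X : Set G) : Set G) := by
    intro X g hg
    rw [mem_normalizer_iff_cj, cj_centralizer, mem_normalizer_iff_cj.1 hg]
  have hnU : ∀ {R : Subgroup G}, normalizer (R : Set G) ≤ normalizer (UR R : Set G) := fun {R} =>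
    Half.le_normalizer_inf hnQ (hnQ.trans (hnC _))
  have h1 : UR R' ⊓ C ≤ o2 C := by
    refine ZN.le_o2 inf_le_right ((o2_isPGroup _).to_le (inf_le_left.trans inf_le_left)) ?_
    exact Half.le_normalizer_inf (hCH'.trans hnU) le_normalizer
  have h2 : o2 C ≤ QR R := by
    refine ZN.le_o2 ((ZN.o2_le C).trans hCH) (o2_isPGroup _) ?_
    intro g hg
    rw [mem_normalizer_iff_cj, cj_o2]
    congr 1
    exact mem_normalizer_iff_cj.1 (hnC _ (hnU hg))
  refine h2 (h1 (mem_inf.2 ⟨hy, ?_⟩))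
  rw [hC, mem_centralizer_iff]
  intro u hu
  exact (hyc u hu).symm

/-- `V_j = R R'` -/
theorem exists_mul {j : Fin k} {R R' : Subgroup G} (hR : R ∈ lns M j) (hR' : R' ∈ lns M j) (hne : R ≠ R') {v : G}
    (hv : v ∈ fac M j) : ∃ r ∈ R, ∃ r' ∈ R', v = r * r' := by
  have hc : ∀ x ∈ R, ∀ y ∈ R', x * y = y * x := fun x hx y hy =>
    comm M (fac_le M j (lns_le hR hx)) (fac_le M j (lns_le hR' hy))
  let f : R × R' → fac M j := fun p => ⟨p.1 * p.2, mul_mem (lns_le hR p.1.2) (lns_le hR' p.2.2)⟩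
  have hf : Function.Injective f := by
    rintro ⟨⟨a, ha⟩, ⟨b, hb⟩⟩ ⟨⟨a', ha'⟩, ⟨b', hb'⟩⟩ hab
    have h1 : a * b = a' * b' := congrArg Subtype.val hab
    have h2 : a'⁻¹ * a = b' * b⁻¹ := by
      rw [inv_mul_eq_iff_eq_mul, ← mul_assoc, ← h1, mul_inv_cancel_right]
    have h3 : a'⁻¹ * a = 1 := lns_inf hR hR' hne (mul_mem (inv_mem ha') ha) (by
      rw [h2]; exact mul_mem hb' (inv_mem hb))
    have h4 : a' = a := inv_mul_eq_one.1 h3
    subst h4
    have h5 : b = b' := mul_left_cancel h1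
    subst h5
    rfl
  have hcard : Nat.card (R × R') = Nat.card (fac M j) := by
    rw [Nat.card_prod, h.card_R hR, h.card_R hR', card_fac, pow_two]
  have hs : Function.Surjective f := ((Nat.bijective_iff_injective_and_card f).2 ⟨hf, hcard⟩).2
  obtain ⟨⟨⟨a, ha⟩, ⟨b, hb⟩⟩, hab⟩ := hs ⟨v, hv⟩
  exact ⟨a, ha, b, hb, (congrArg Subtype.val hab).symm⟩

/-- The component in `V_j` of an element of `V` commuting with `K_R`, `R ≤ V_j`, lies in `R`. -/
theorem comp_mem {j : Fin k} {R : Subgroup G} (hR : R ∈ lns M j) {v a : G}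
    (hc : ∀ w ∈ KR R, w * v = v * w) (ha : a ∈ fac M j) (hav : a⁻¹ * v ∈ part M {j}ᶜ) : a ∈ R := by
  by_contra haR
  obtain ⟨W, hW⟩ := h.ptn j R hR
  apply h.R_ne hR
  rw [eq_bot_iff_forall]
  intro r hr
  obtain ⟨w, hw, h1⟩ := hW.full a ha haR r hr
  have hwK := hW.WK hw
  have h2 := h.QR_comm hR (h.KR_le_QR hR hwK) hav
  have h3 := hc w hwK
  have h4 : w * a = a * w := by
    have e : a = v * (a⁻¹ * v)⁻¹ := by group
    have h5 : w * (a⁻¹ * v)⁻¹ = (a⁻¹ * v)⁻¹ * w := by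
      rw [eq_inv_mul_iff_mul_eq, ← mul_assoc, ← h2, mul_inv_cancel_right]
    calc w * a = w * v * (a⁻¹ * v)⁻¹ := by rw [mul_assoc, ← e]
      _ = v * (w * (a⁻¹ * v)⁻¹) := by rw [h3, mul_assoc]
      _ = v * (a⁻¹ * v)⁻¹ * w := by rw [h5, mul_assoc]
      _ = a * w := by rw [← e]
  rw [← h1, h4, mul_inv_cancel_right, mul_inv_cancel]

/-- The full root group, on `V`. -/
theorem full_V {j : Fin k} {R : Subgroup G} (hR : R ∈ lns M j) {v a : G} (ha : a ∈ fac M j) (haR : a ∉ R)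
    (hav : a⁻¹ * v ∈ part M {j}ᶜ) {r : G} (hr : r ∈ R) : ∃ w ∈ KR R, w * v * w⁻¹ * v⁻¹ = r := by
  obtain ⟨W, hW⟩ := h.ptn j R hR
  obtain ⟨w, hw, h1⟩ := hW.full a ha haR r hr
  have hwK := hW.WK hw
  have h2 := h.QR_comm hR (h.KR_le_QR hR hwK) hav
  refine ⟨w, hwK, ?_⟩
  rw [← h1]
  have e : v = a * (a⁻¹ * v) := by group
  have e2 : w * (a⁻¹ * v) * w⁻¹ = a⁻¹ * v := by rw [h2]; group
  calc w * v * w⁻¹ * v⁻¹ = w * a * w⁻¹ * (w * (a⁻¹ * v) * w⁻¹) * v⁻¹ := by group
    _ = w * a * w⁻¹ * (a⁻¹ * v) * v⁻¹ := by rw [e2]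
    _ = w * a * w⁻¹ * a⁻¹ := by group

/-- The elements of `Q_R` act on `V_j` as elements of `SL₂(F)`. -/
theorem exists_same {j : Fin k} {R : Subgroup G} (hR : R ∈ lns M j) {x : G} (hx : x ∈ QR R) :
    ∃ g ∈ grp M {j}, ∀ v ∈ fac M j, x * v * x⁻¹ = g * v * g⁻¹ := by
  obtain ⟨l, hl, rfl⟩ := hR
  rw [QR, ← cj_o2N, mem_cj] at hx
  obtain ⟨b, hb⟩ := (h.one j).o2_up hx
  obtain ⟨g, hg, hgb⟩ := exists_lift M j (up b)
  refine ⟨l * g * l⁻¹, mul_mem (mul_mem hl hg) (inv_mem hl), fun v hv => ?_⟩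
  have hv' : l⁻¹ * v * l ∈ fac M j := by
    have := grp_conj_fac (inv_mem hl) hv
    rwa [inv_inv] at this
  have h1 : l⁻¹ * x * l * (l⁻¹ * v * l) * (l⁻¹ * x * l)⁻¹ = g * (l⁻¹ * v * l) * g⁻¹ := by
    refine ext_fac M ((mem_normalizer_iff.1 (stab_normalizes M j ((h.one j).QT hx)) _).1 hv')
      (grp_conj_fac hg hv') ?_
    rw [hb _ hv', hgb _ (fac_le M j hv')]
  calc x * v * x⁻¹ = l * (l⁻¹ * x * l * (l⁻¹ * v * l) * (l⁻¹ * x * l)⁻¹) * l⁻¹ := by group
    _ = l * (g * (l⁻¹ * v * l) * g⁻¹) * l⁻¹ := by rw [h1]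
    _ = l * g * l⁻¹ * v * (l * g * l⁻¹)⁻¹ := by group

theorem cj_lns' {j : Fin k} {R R' : Subgroup G} (hR : R ∈ lns M j) (hR' : R' ∈ lns M j) {x : G} (hx : x ∈ QR R) :
    cj x R' ∈ lns M j := by
  obtain ⟨g, hg, h1⟩ := h.exists_same hR hx
  have h2 : cj x R' = cj g R' := by
    have key : ∀ x g : G, (∀ v ∈ fac M j, x * v * x⁻¹ = g * v * g⁻¹) → cj x R' ≤ cj g R' := by
      intro x g h1 y hy
      rw [mem_cj] at hy
      have h3 := h1 _ (lns_le hR' hy)
      have e : x * (x⁻¹ * y * x) * x⁻¹ = y := by group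
      rw [e] at h3
      rw [mem_cj, h3]
      have e2 : g⁻¹ * (g * (x⁻¹ * y * x) * g⁻¹) * g = x⁻¹ * y * x := by group
      rwa [e2]
    exact le_antisymm (key x g h1) (key g x fun v hv => (h1 v hv).symm)
  rw [h2]
  exact cj_mem_lns hR' hg

/-- `⟨K_R, K_{R'}⟩` is transitive on the lines: an element commuting with `K_R` and `K_{R'}` commutes with all
`K_{R''}`. -/
theorem comm_all {j : Fin k} {R R' : Subgroup G} (hR : R ∈ lns M j) (hR' : R' ∈ lns M j) (hne : R ≠ R') {c : G}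
    (h1 : ∀ w ∈ KR R, c * w = w * c) (h2 : ∀ w ∈ KR R', c * w = w * c) :
    ∀ R'' ∈ lns M j, ∀ w ∈ KR R'', c * w = w * c := by
  intro R'' hR'' w hw
  by_cases he : R'' = R
  · rw [he] at hw
    exact h1 w hw
  obtain ⟨v, hv, hv1⟩ := (Subgroup.bot_or_exists_ne_one R'').resolve_left (h.R_ne hR'')
  obtain ⟨r, hr, r', hr', hvr⟩ := h.exists_mul hR hR' hne (lns_le hR'' hv)
  have hr'R : r' ∉ R := by
    intro h3
    have h4 : r' = 1 := lns_inf hR hR' hne h3 hr'
    apply hv1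
    rw [hvr, h4, mul_one] at hv ⊢
    exact lns_inf hR hR'' (Ne.symm he) hr hv
  obtain ⟨W, hW⟩ := h.ptn j R hR
  obtain ⟨x, hx, hxr⟩ := hW.full r' (lns_le hR' hr') hr'R r hr
  have hxK := hW.WK hx
  have hxv : x * r' * x⁻¹ = v := by
    rw [hvr, ← hxr, inv_mul_cancel_right]
  have h3 : cj x R' ∈ lns M j := h.cj_lns' hR hR' (h.KR_le_QR hR hxK)
  have h4 : cj x R' = R'' := by
    by_contra hne'
    refine hv1 (lns_inf h3 hR'' hne' ?_ hv)
    rw [mem_cj, ← hxv]
    have e : x⁻¹ * (x * r' * x⁻¹) * x = r' := by group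
    rwa [e]
  rw [← h4, ← cj_KR, mem_cj] at hw
  have h5 := h2 _ hw
  have h6 := h1 x hxK
  have h7 : c * x⁻¹ = x⁻¹ * c := by
    rw [eq_inv_mul_iff_mul_eq, ← mul_assoc, ← h6, mul_inv_cancel_right]
  calc c * w = c * x * (x⁻¹ * w * x) * x⁻¹ := by group
    _ = x * (c * (x⁻¹ * w * x)) * x⁻¹ := by rw [h6]; group
    _ = x * (x⁻¹ * w * x) * (c * x⁻¹) := by rw [h5]; group
    _ = w * c := by rw [h7]; group

/-- **(CU)** -/
theorem cu {j : Fin k} {y : G} (hyQ : ∀ x ∈ o2 P, y * x = x * y) (hy : ∀ R ∈ lns M j, y ∈ QR R) :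
    ∃ e ∈ fac M j, ∀ R ∈ lns M j, ∀ w ∈ KR R, y * e * w = w * (y * e) := by
  have hR := line_mem_lns (M := M) j
  obtain ⟨R', hR', hne, -⟩ := exists_third_lns hR hR
  set R := line M j with hRd
  -- one line
  have key : ∀ {R : Subgroup G}, R ∈ lns M j → ∃ e ∈ fac M j, ∀ r ∈ R, ∀ w ∈ KR R,
      y * (e * r) * w = w * (y * (e * r)) := by
    intro R hR
    obtain ⟨W, hW⟩ := h.ptn j R hR
    obtain ⟨e, he, h1⟩ := hW.onW y (hy R hR)
    refine ⟨e, he, fun r hr => ?_⟩
    have h2 : ∀ w ∈ W, y * (e * r) * w = w * (y * (e * r)) := by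
      intro w hw
      have h3 := mem_centralizer_iff.1 (mem_KR.1 (hW.WK hw)).1 r hr
      calc y * (e * r) * w = y * e * (r * w) := by group
        _ = y * e * w * r := by rw [h3]; group
        _ = w * (y * (e * r)) := by rw [h1 w hw]; group
    intro w hw
    obtain ⟨w0, hw0, h4⟩ := hW.onV w (h.KR_le_QR hR hw)
    have h5 : w * w0 ∈ o2 P := by
      apply h.QRc_le_Q hR
      have h6 : w * w0 ∈ QR R := mul_mem (h.KR_le_QR hR hw) (h.KR_le_QR hR (hW.WK hw0))
      refine mem_inf.2 ⟨h6, ?_⟩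
      have h7 : zl (S : Subgroup G) P ≤ centralizer ({w * w0} : Set G) := by
        refine zl_le_of M fun m => ?_
        intro v hv
        rw [mem_centralizer_singleton_iff]
        by_cases hm : m = j
        · subst hm
          exact (h4 v hv).symm
        · exact mem_centralizer_iff.1 (h.QR_cent hm hR h6) v hv
      rw [mem_centralizer_iff]
      intro v hv
      exact mem_centralizer_singleton_iff.1 (h7 hv)
    have h8 : y * (e * r) * (w * w0) = w * w0 * (y * (e * r)) := by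
      have h9 : e * r * (w * w0) = w * w0 * (e * r) :=
        mem_centralizer_iff.1 (h.Q_cent h5) _ (fac_le M j (mul_mem he (lns_le hR hr)))
      calc y * (e * r) * (w * w0) = y * (e * r * (w * w0)) := by group
        _ = y * (w * w0) * (e * r) := by rw [h9]; group
        _ = w * w0 * (y * (e * r)) := by rw [hyQ _ h5]; group
    have h10 := h2 w0 hw0
    calc y * (e * r) * w = y * (e * r) * (w * w0) * w0⁻¹ := by group
      _ = w * (w0 * (y * (e * r))) * w0⁻¹ := by rw [h8]; group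
      _ = w * (y * (e * r)) := by rw [← h10]; group
  obtain ⟨e, he, h1⟩ := key hR
  obtain ⟨e', he', h2⟩ := key hR'
  obtain ⟨r, hr, r', hr', h3⟩ := h.exists_mul hR hR' (Ne.symm hne) (mul_mem (inv_mem he) he')
  have h4 : e * r = e' * r'⁻¹ := by
    have : e' = e * (r * r') := by rw [← h3, mul_inv_cancel_left]
    rw [this]
    group
  refine ⟨e * r, mul_mem he (lns_le hR hr), ?_⟩
  refine h.comm_all hR hR' (Ne.symm hne) (h1 r hr) ?_
  rw [h4]
  exact h2 _ (inv_mem hr')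

/-- An element of `Z(Q)` commuting with all `K_R` is `1`. -/
theorem eq_one {b : G} (hbQ : ∀ x ∈ o2 P, b * x = x * b) (hb : ∀ j, ∀ R ∈ lns M j, ∀ w ∈ KR R, b * w = w * b) :
    b = 1 := by
  by_contra hb1
  let B : Subgroup G := o2 P ⊓ centralizer (o2 P : Set G) ⊓ ⨅ j, ⨅ R : lns M j, centralizer (KR R.1 : Set G)
  have hmem : ∀ x, x ∈ B ↔ (x ∈ o2 P ∧ x ∈ centralizer (o2 P : Set G)) ∧
      ∀ j, ∀ R ∈ lns M j, ∀ w ∈ KR R, x * w = w * x := by
    intro x
    rw [mem_inf, mem_inf]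
    simp only [mem_iInf]
    constructor
    · rintro ⟨h1, h2⟩
      exact ⟨h1, fun j R hR w hw => (mem_centralizer_iff.1 (h2 j ⟨R, hR⟩) w hw).symm⟩
    · rintro ⟨h1, h2⟩
      exact ⟨h1, fun j R => mem_centralizer_iff.2 fun w hw => (h2 j R.1 R.2 w hw).symm⟩
  have hbc : b ∈ centralizer (o2 P : Set G) := mem_centralizer_iff.2 fun x hx => (hbQ x hx).symm
  have hbB : b ∈ B := (hmem b).2 ⟨⟨h.cent_Q hbc, hbc⟩, hb⟩
  have hBne : B ≠ ⊥ := fun e => hb1 ((eq_bot_iff_forall _).1 e b hbB)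
  have hBS : B ≤ (S : Subgroup G) := fun x hx => h.o2S ((hmem x).1 hx).1.1
  have hSB : (S : Subgroup G) ≤ normalizer (B : Set G) := by
    apply Two.le_normalizer_of
    intro s hs x hx
    obtain ⟨⟨h1, h2⟩, h3⟩ := (hmem x).1 hx
    have hsP := h.le hs
    refine (hmem _).2 ⟨⟨(mem_normalizer_iff.1 (ZN.le_normalizer_o2 P hsP) x).1 h1, ?_⟩, ?_⟩
    · have h4 : s ∈ normalizer (centralizer (o2 P : Set G) : Set G) := by
        rw [mem_normalizer_iff_cj, cj_centralizer, mem_normalizer_iff_cj.1 (ZN.le_normalizer_o2 P hsP)]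
      exact (mem_normalizer_iff.1 h4 x).1 h2
    · intro j R hR w hw
      have h5 : cj s⁻¹ R ∈ lns M (sg M (h.le (inv_mem hs)) j) := cj_lns h.le (inv_mem hs) hR
      have h6 : s⁻¹ * w * s ∈ KR (cj s⁻¹ R) := by
        rw [← cj_KR, mem_cj]
        have e : s⁻¹⁻¹ * (s⁻¹ * w * s) * s⁻¹ = w := by group
        rwa [e]
      have h7 := h3 _ _ h5 _ h6
      calc s * x * s⁻¹ * w = s * (x * (s⁻¹ * w * s)) * s⁻¹ := by group
        _ = s * (s⁻¹ * w * s * x) * s⁻¹ := by rw [h7]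
        _ = w * (s * x * s⁻¹) := by group
  obtain ⟨z, hzB, hz1, hzc⟩ := exists_zc S.isPGroup' hBS hBne hSB
  have hzV : z ∈ zl (S : Subgroup G) P := ZN.ChoiceSit.zc_le_zl _ _ hzc
  apply hz1
  rw [← e_eq_zero M hzV]
  funext j
  obtain ⟨a, ha, h1, h2⟩ := exists_component M hzV j
  have hR := line_mem_lns (M := M) j
  obtain ⟨R', hR', hne, -⟩ := exists_third_lns hR hR
  have h3 : ∀ R ∈ lns M j, a ∈ R := fun R hR =>
    h.comp_mem hR (fun w hw => (((hmem z).1 hzB).2 j R hR w hw).symm) ha h2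
  have h4 : a = 1 := lns_inf hR hR' (Ne.symm hne) (h3 _ hR) (h3 _ hR')
  rw [← h1, h4, e_one]

/-- **(V-)**: `Z(Q_R) ∩ C(Q) ≤ V` for a line `R` of `V_i`, if there is a further factor. -/
theorem hV {i : Fin k} (hk : ∃ j : Fin k, j ≠ i) {y : G} (hy : y ∈ o2 (normalizer (line M i : Set G)))
    (hyc : ∀ x ∈ o2 (normalizer (line M i : Set G)), x * y = y * x) (hyQ : ∀ x ∈ o2 P, x * y = y * x) :
    y ∈ zl (S : Subgroup G) P := by
  have hRi := line_mem_lns (M := M) i
  -- `V^i` and `Z(Q)`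
  have hU : ∀ c, c ∈ QR (line M i) → (∀ x ∈ QR (line M i), x * c = c * x) → (∀ x ∈ o2 P, x * c = c * x) →
      ∀ j, j ≠ i → ∀ R ∈ lns M j, c ∈ QR R := by
    intro c hc hcc hcQ j hj R hR
    refine h.F_of (Ne.symm hj) hR hRi ⟨hc, mem_centralizer_iff.2 hcc⟩ fun u hu => ?_
    exact (hcQ u (h.UR_le_Q hR hu)).symm
  have h1 := hU y hy hyc hyQ
  choose! e he hew using fun (j : Fin k) (hj : j ≠ i) => h.cu (fun x hx => (hyQ x hx).symm) (h1 j hj)
  classical
  obtain ⟨E, hE, hEe⟩ := M.surj fun j => if j = i then 0 else M.e (e j) j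
  have hEi : E ∈ part M {i}ᶜ := ⟨hE, fun j hj => by
    have hj' : j = i := by simpa using hj
    rw [hEe]
    simp [hj']⟩
  have hEj : ∀ j, j ≠ i → (e j)⁻¹ * E ∈ part M {j}ᶜ := by
    intro j hj
    refine ⟨mul_mem (inv_mem (he j hj).1) hE, fun m hm => ?_⟩
    have hm' : m = j := by simpa using hm
    rw [hm', M.mul _ (inv_mem (he j hj).1) _ hE, e_inv M (he j hj).1, Pi.add_apply, Pi.neg_apply, hEe]
    simp [hj]
  have hEc : ∀ x ∈ QR (line M i), x * E = E * x := fun x hx => h.QR_comm hRi hx hEi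
  have hEQ : ∀ x ∈ o2 P, x * E = E * x := fun x hx => (mem_centralizer_iff.1 (h.Q_cent hx) E hE).symm
  -- `c = y E`
  have c1 : y * E ∈ QR (line M i) := mul_mem hy (h.V_le_QR hRi hE)
  have c2 : ∀ x ∈ QR (line M i), x * (y * E) = y * E * x := fun x hx => by
    rw [← mul_assoc, hyc x hx, mul_assoc, hEc x hx, mul_assoc]
  have c3 : ∀ x ∈ o2 P, x * (y * E) = y * E * x := fun x hx => by
    rw [← mul_assoc, hyQ x hx, mul_assoc, hEQ x hx, mul_assoc]
  have c4 : ∀ j, j ≠ i → ∀ R ∈ lns M j, ∀ w ∈ KR R, y * E * w = w * (y * E) := by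
    intro j hj R hR w hw
    have h2 := hew j hj R hR w hw
    have h3 := h.QR_comm hR (h.KR_le_QR hR hw) (hEj j hj)
    calc y * E * w = y * e j * ((e j)⁻¹ * E * w) := by group
      _ = y * e j * w * ((e j)⁻¹ * E) := by rw [← h3]; group
      _ = w * (y * E) := by rw [h2]; group
  have c5 := hU _ c1 c2 c3
  -- `c ∈ U_R` for a line `R` of some `V_j`, `j ≠ i`
  obtain ⟨j, hj⟩ := hk
  have hR := line_mem_lns (M := M) j
  have c6 : y * E ∈ UR (line M j) := by
    refine mem_inf.2 ⟨c5 j hj _ hR, ?_⟩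
    rw [mem_centralizer_iff]
    intro x hx
    obtain ⟨W, hW⟩ := h.ptn j _ hR
    obtain ⟨w0, hw0, h4⟩ := hW.onV x hx
    have h5 : x * w0 ∈ o2 P := by
      apply h.QRc_le_Q hR
      have h6 : x * w0 ∈ QR (line M j) := mul_mem hx (h.KR_le_QR hR (hW.WK hw0))
      refine mem_inf.2 ⟨h6, ?_⟩
      have h7 : zl (S : Subgroup G) P ≤ centralizer ({x * w0} : Set G) := by
        refine zl_le_of M fun m => ?_
        intro v hv
        rw [mem_centralizer_singleton_iff]
        by_cases hm : m = j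
        · subst hm
          exact (h4 v hv).symm
        · exact mem_centralizer_iff.1 (h.QR_cent hm hR h6) v hv
      rw [mem_centralizer_iff]
      intro v hv
      exact mem_centralizer_singleton_iff.1 (h7 hv)
    have h8 := c3 _ h5
    have h9 := c4 j hj _ hR w0 (hW.WK hw0)
    have h10 : x * (w0 * (y * E)) = y * E * x * w0 := by
      rw [← mul_assoc, h8]
      group
    rw [← h9] at h10
    have h11 : x * (y * E) * w0 = y * E * x * w0 := by rw [← h10]; group
    exact mul_right_cancel h11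
  have c7 : ∀ R' ∈ lns M i, y * E ∈ QR R' := fun R' hR' =>
    h.F_of hj hR' hR c6 fun u hu => (c3 u (h.UR_le_Q hR' hu)).symm
  obtain ⟨e1, he1, h12⟩ := h.cu (fun x hx => (c3 x hx).symm) c7
  have h13 : y * E * e1 = 1 := by
    refine h.eq_one (fun x hx => ?_) fun m R hR w hw => ?_
    · have h14 := mem_centralizer_iff.1 (h.Q_cent hx) e1 he1.1
      calc y * E * e1 * x = y * E * (e1 * x) := by group
        _ = y * E * x * e1 := by rw [h14]; group
        _ = x * (y * E * e1) := by rw [← c3 x hx]; group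
    · by_cases hm : m = i
      · subst hm
        exact h12 R hR w hw
      · have h14 := mem_centralizer_iff.1 (h.QR_cent (Ne.symm hm) hR (h.KR_le_QR hR hw)) e1 he1
        calc y * E * e1 * w = y * E * (e1 * w) := by group
          _ = y * E * w * e1 := by rw [h14]; group
          _ = w * (y * E * e1) := by rw [c4 m hm R hR w hw]; group
  have h14 : y = e1⁻¹ * E⁻¹ := by
    rw [← mul_inv_rev, eq_inv_iff_mul_eq_one, ← mul_assoc]
    exact h13
  rw [h14]
  exact mul_mem (inv_mem he1.1) (inv_mem hE)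

end Cx

end frame

end Cfsg.Agent.Omega.IId.BigFour.SylPt

end

section


/-!
# II.d, `BigFour.CaseTwo` (helper873)

`T = stab M i` is a Sylow 2-subgroup of `N_G(line M i)`, for all `q` and all `k ≥ 2`, if all lines have partners
(#19648, #19731).

* `LemTwo M i` : LEMMA 2: `N_G(line M i) ∩ N_G(T)` normalises `V⁻ = {v ∈ V | M.e v i 1 = 0}`;
* `perm` : it permutes the lines `line M l`, `l ≠ i`;
* `not_dvd` : `T` is a Sylow 2-subgroup of `N_G(line M i)`;
* `lemTwo` : LEMMA 2 (`SylFr`, `Orbit2`);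
* `caseTwo` : **`CaseTwo K`**.
-/

set_option autoImplicit false
set_option linter.unusedSectionVars false

namespace Cfsg.Agent.Omega.IId.BigFour.SylFour

open Subgroup Cfsg Cfsg.Agent.ZN.ChoiceBase
open Cfsg.Agent.ZN (o2 zc zl)
open Cfsg.Agent.Omega.MinPar Cfsg.Agent.Omega.FFThm Cfsg.Agent.Omega.Frame
open Cfsg.Agent.Omega.IId.SideOf (KR mem_KR)
open Cfsg.Agent.Omega.IId.Lns
open Cfsg.Agent.Omega.IId.BigFour.SylPt
open Cfsg.Agent.Omega.IId.BigFour.SylTools (comm_line syl_one)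

universe u

section main

variable {G : Type u} [Group G] [Finite G] {F : Type} [Field F] [Finite F] [CharP F 2]
  {S : Sylow 2 G} {P : Subgroup G} {k : ℕ}
  {M : NatK F (S : Subgroup G) P (zl (S : Subgroup G) P) ⊥ k}

/-- The conclusion of LEMMA 2. -/
def LemTwo (M : NatK F (S : Subgroup G) P (zl (S : Subgroup G) P) ⊥ k) (i : Fin k) : Prop :=
  ∀ t ∈ normalizer (line M i : Set G), t ∈ normalizer (stab M i : Set G) →
    ∀ v ∈ zl (S : Subgroup G) P, M.e v i 1 = 0 →
      t * v * t⁻¹ ∈ zl (S : Subgroup G) P ∧ M.e (t * v * t⁻¹) i 1 = 0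

theorem KR_le_stab (h : Cx M) (i l : Fin k) : KR (line M l) ≤ stab M i := by
  have h1 := Qt.qt h.le h.cc l
  have h2 := h.KR_le_QR (line_mem_lns (M := M) l)
  exact le_inf (h2.trans (h1.1.trans (stab_le M l))) (h2.trans (h1.2 i))

theorem perm (h : Cx M) {i : Fin k} (h2 : LemTwo M i) {t : G} (ht : t ∈ normalizer (line M i : Set G))
    (htT : t ∈ normalizer (stab M i : Set G)) {l : Fin k} (hl : l ≠ i) :
    ∃ m, m ≠ i ∧ cj t (line M l) = line M m := by
  have hR := line_mem_lns (M := M) l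
  have hcj : ∀ {x : G} {X : Subgroup G}, x ∈ X → t * x * t⁻¹ ∈ cj t X := fun {x X} hx => by
    rw [mem_cj]
    have e : t⁻¹ * (t * x * t⁻¹) * t = x := by group
    rwa [e]
  refine perm_line (M := M) h.le (A := cj t (KR (line M l))) ?_ ?_ ?_ ?_ ?_ ?_
  · rw [← mem_normalizer_iff_cj.1 htT]
    exact cj_mono t (KR_le_stab h i l)
  · rw [card_cj, card_line]
  · intro v hv hv0
    obtain ⟨hv', hv0'⟩ := h2 t⁻¹ (inv_mem ht) (inv_mem htT) v hv hv0
    rw [inv_inv] at hv' hv0'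
    obtain ⟨a, ha, ha1, ha2⟩ := exists_component M hv' l
    by_cases hal : a ∈ line M l
    · left
      intro x hx
      rw [mem_cj] at hx
      have h3 := mem_centralizer_iff.1 (mem_KR.1 hx).1 a hal
      have h4 := h.QR_comm hR (h.KR_le_QR hR hx) ha2
      have h5 : t⁻¹ * x * t * (t⁻¹ * v * t) = t⁻¹ * v * t * (t⁻¹ * x * t) := by
        calc t⁻¹ * x * t * (t⁻¹ * v * t) = t⁻¹ * x * t * a * (a⁻¹ * (t⁻¹ * v * t)) := by group
          _ = a * (t⁻¹ * x * t) * (a⁻¹ * (t⁻¹ * v * t)) := by rw [h3]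
          _ = a * (t⁻¹ * x * t * (a⁻¹ * (t⁻¹ * v * t))) := by group
          _ = a * (a⁻¹ * (t⁻¹ * v * t) * (t⁻¹ * x * t)) := by rw [h4]
          _ = t⁻¹ * v * t * (t⁻¹ * x * t) := by group
      calc x * v = t * (t⁻¹ * x * t * (t⁻¹ * v * t)) * t⁻¹ := by group
        _ = t * (t⁻¹ * v * t * (t⁻¹ * x * t)) * t⁻¹ := by rw [h5]
        _ = v * x := by group
    · right
      constructor
      · intro x hx
        rw [mem_cj] at hx ⊢
        have h3 := h.comm_V hR (h.KR_le_QR hR hx) hv'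
        have e : t⁻¹ * (v * x * v⁻¹ * x⁻¹) * t =
            (t⁻¹ * x * t * (t⁻¹ * v * t) * (t⁻¹ * x * t)⁻¹ * (t⁻¹ * v * t)⁻¹)⁻¹ := by group
        rw [e]
        exact inv_mem h3
      · intro z hz
        rw [mem_cj] at hz
        obtain ⟨w, hw, h3⟩ := h.full_V hR ha hal ha2 (inv_mem hz)
        refine ⟨t * w * t⁻¹, hcj hw, ?_⟩
        calc v * (t * w * t⁻¹) * v⁻¹ * (t * w * t⁻¹)⁻¹ = t * (w * (t⁻¹ * v * t) * w⁻¹ * (t⁻¹ * v * t)⁻¹)⁻¹ * t⁻¹ := by
              group
          _ = t * ((t⁻¹ * z * t)⁻¹)⁻¹ * t⁻¹ := by rw [h3]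
          _ = z := by group
  · intro a ha r hr
    rw [mem_cj] at ha
    have h3 : t⁻¹ * r * t ∈ line M i := by
      have := (mem_normalizer_iff.1 (inv_mem ht) r).1 hr
      rwa [inv_inv] at this
    have h4 := mem_centralizer_iff.1 (h.QR_cent (Ne.symm hl) hR (h.KR_le_QR hR ha)) _ (line_le M i h3)
    calc a * r = t * (t⁻¹ * a * t * (t⁻¹ * r * t)) * t⁻¹ := by group
      _ = t * (t⁻¹ * r * t * (t⁻¹ * a * t)) * t⁻¹ := by rw [h4]
      _ = r * a := by group
  · obtain ⟨v, hv, hve⟩ := exists_fac M l ![0, 1]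
    have hvR : v ∉ line M l := by
      intro h3
      have h4 := ((mem_line M).1 h3).2
      rw [hve] at h4
      simp at h4
    have hvi : M.e v i 1 = 0 := by
      rw [hv.2 i (Ne.symm hl)]
      rfl
    obtain ⟨h5, h6⟩ := h2 t ht htT v hv.1 hvi
    refine ⟨_, h5, h6, ?_⟩
    obtain ⟨r, hr, hr1⟩ := (Subgroup.bot_or_exists_ne_one (line M l)).resolve_left (h.R_ne hR)
    obtain ⟨w, hw, h7⟩ := h.full_V hR hv hvR (v := v) (by rw [inv_mul_cancel]; exact one_mem _) hr
    refine ⟨t * w * t⁻¹, hcj hw, fun h8 => hr1 ?_⟩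
    rw [← h7]
    have h9 : w * v = v * w := by
      calc w * v = t⁻¹ * (t * w * t⁻¹ * (t * v * t⁻¹)) * t := by group
        _ = t⁻¹ * (t * v * t⁻¹ * (t * w * t⁻¹)) * t := by rw [h8]
        _ = v * w := by group
    rw [h9, mul_inv_cancel_right, mul_inv_cancel]
  · intro m a _ ha hc
    exact comm_line h.le ha hc

/-- `T` is a Sylow 2-subgroup of `N_G(R)`. -/
theorem not_dvd (h : Cx M) {i : Fin k} (h2 : LemTwo M i) :
    ¬ 2 ∣ (stab M i).relIndex (normalizer (line M i : Set G)) :=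
  not_dvd_of_perm M h.le fun _ ht htT _ hl => perm h h2 ht htT hl

theorem lemTwo (h : Cx M) {i : Fin k} (hk : ∃ j, j ≠ i) : LemTwo M i := by
  have hf : SylFr.FrH M :=
    { c2T := h.c2T
      par := h.par
      cc := h.cc
      full := fun j L hL v hv hvL r hr =>
        h.full_V hL hv hvL (v := v) (by rw [inv_mul_cancel]; exact one_mem _) hr
      hV := fun i' y hy hyc hyQ => by
        refine h.hV ?_ hy hyc hyQ
        by_cases he : i' = i
        · rw [he]
          exact hk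
        · exact ⟨i, Ne.symm he⟩ }
  intro t ht htT v hv hv0
  exact hf.minus_inv (i := i) (fun X hX hne => Orbit2.exists_orbit_two M h.le hX hne) ht htT v ⟨hv, hv0⟩

/-- **`T` is a Sylow 2-subgroup of `N_G(R)`.** -/
theorem syl (h : Cx M) {i : Fin k} (hk : ∃ j, j ≠ i) :
    ¬ 2 ∣ (stab M i).relIndex (normalizer (line M i : Set G)) :=
  not_dvd h (lemTwo h hk)

end main

/-- Both sides of a pair: `T = N_S(V_i)` is a Sylow 2-subgroup of `N_G(R)`. -/
theorem syl_of_pair {G : Type u} [Group G] [Finite G] {F F' : Type} [Field F] [Finite F] [CharP F 2]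
    [Field F'] [Finite F'] [CharP F' 2] {S S' : Sylow 2 G} {P P' : Subgroup G} {k k' : ℕ}
    {M : NatK F (S : Subgroup G) P (zl (S : Subgroup G) P) ⊥ k}
    {M' : NatK F' (S' : Subgroup G) P' (zl (S' : Subgroup G) P') ⊥ k'} {i : Fin k} {i' : Fin k'}
    (b : BOne M i) (b' : BOne M' i') (hl : line M i = line M' i') (hF : Nat.card F' = Nat.card F)
    (hne : ∃ v ∈ fac M i, ∃ w ∈ fac M' i', v * w ≠ w * v) :
    ¬ 2 ∣ (stab M i).relIndex (normalizer (line M i : Set G)) := by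
  rcases Nat.lt_or_ge k 2 with hk | hk
  · have : k = 1 := by
      have := i.2
      omega
    exact (syl_one (M := M) b.le this i).2
  · have hx : Cx M := Cx.of_ptn b.c2T b.par b.cc (ptn_of_pair b b' hl hF hne)
    have : Nontrivial (Fin k) := Fin.nontrivial_iff_two_le.2 hk
    exact syl hx (exists_ne i)

/-- **`CaseTwo K`** -/
theorem caseTwo (K : Cls.{u}) : CaseTwo K := by
  intro G _ _ S S' hH P P' hp F F' _ _ _ _ _ _ k k' M M' i i' hk hk' h4 hF hC hC' hi hl hne _ _ hd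
  exfalso
  have hc := hH.ctx.char2
  have b : BOne M i := BOne.of hc hp.star hC i
  have b' : BOne M' i' := BOne.of hc hp.star' hC' i'
  rcases hd with hd | hd
  · exact syl_of_pair b b' hl hF hne hd
  · obtain ⟨v, hv, w, hw, hvw⟩ := hne
    exact syl_of_pair b' b hl.symm hF.symm ⟨w, hw, v, hv, Ne.symm hvw⟩ hd

end Cfsg.Agent.Omega.IId.BigFour.SylFour

end
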