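import Cfsg.Agent.Mrg.Omega.HOne.CutT
import Cfsg.Agent.Mrg.Omega.IId.BigFour.Cut
import Cfsg.Agent.Mrg.Omega.IId.BigFour.NoBigK


/-!
# II.d, `WrBigFour`: `NoBigEnt K` (helper43)

`Ent K S P M i N` (CASE 1, unmixed), `k > 2` factors: `T = stab M i`, `R = line M i`.  The chain over `T` gives
`G₀ ≥ X, O₂(N_G(R))` with `N_G(R) ≤ N_G(G₀)`, THEOREM ID gives `X_b` with `NK T G₀ R X_b`.

An element `s ∈ N_S(T) ∖ T` gives a second factor `V_j` fixed by `T`.  The elements of `V^i ∩ Z(T)`, `V^i = ∏_{l ≠ i} V_l`,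
lie in `X_b`.  Let `1 ≠ z₁ ∈ V_j ∩ Z(T)`, `1 ≠ z₂ ∈ Z(T) ∩ ∏_{l ≠ i, j} V_l`.  `L_j` centralises `z₂` and normalises `G₀`,
so it normalises `C_{G₀}(z₂) ≥ T ∩ G₀`, which centralises `X_b ∋ z₁`: `T ∩ G₀` centralises `z₁^{L_j} = V_j^#`, hence
`V_j ≤ X_b`, and `|V_j| = q² > |X_b|`.

* `ent_false`, `ent_sitT`, **`noBigEnt`**.
-/

set_option autoImplicit false
set_option linter.unusedSectionVars false

namespace Cfsg.Agent.Omega.IId.BigFour

open Subgroup Cfsg Cfsg.Agent.ZN.ChoiceBase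
open Cfsg.Agent.ZN (o2 zc zl)
open Cfsg.Agent.Omega.MinPar Cfsg.Agent.Omega.FFThm Cfsg.Agent.Omega.Frame
open Cfsg.Agent.Omega.NatPair (ap NatMod)
open Cfsg.Agent.Omega.IId.FourSide (vec_ne)
open Cfsg.Agent.Omega.IId.SideOf (isPGroup_of_sq)

universe u

variable {G : Type u} [Group G] [Finite G] {F : Type} [Field F] [Finite F] [CharP F 2] {S : Sylow 2 G}
  {P : Subgroup G} {k : ℕ}

theorem part_le_of (M : NatK F (S : Subgroup G) P (zl (S : Subgroup G) P) ⊥ k) {X : Subgroup G} {I : Set (Fin k)}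
    (h : ∀ l ∈ I, fac M l ≤ X) : part M I ≤ X := by
  revert h
  refine Set.Finite.induction_on (motive := fun I _ => (∀ l ∈ I, fac M l ≤ X) → part M I ≤ X) I I.toFinite ?_ ?_
  · intro _
    rw [part_empty]
    exact bot_le
  · intro a I' _ _ ih h v hv
    obtain ⟨x, hx, y, hy, rfl⟩ := exists_comp M hv.1 {a}
    have hy' : y ∈ part M I' := by
      refine ⟨hy.1, fun l hl => ?_⟩
      by_cases hla : l = a
      · exact hy.2 l (fun h1 => h1 hla)
      · have h1 := hv.2 l (fun h2 => h2.elim hla hl)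
        rw [M.mul _ hx.1 _ hy.1, Pi.add_apply, hx.2 l hla, zero_add] at h1
        exact h1
    exact mul_mem (h a (Set.mem_insert a I') hx) (ih (fun l hl => h l (Set.mem_insert_of_mem a hl)) hy')

variable {M : NatK F (S : Subgroup G) P (zl (S : Subgroup G) P) ⊥ k} {i : Fin k} {N : NatMod F (fac M i)}
  {K : Cls.{u}}

/-- the point `R = line M i` -/
theorem ent_exists_pt (h : Ent K S P M i N) : ∃ k₀, BTwo.pt N k₀ = line M i :=
  ⟨⟨N.line ![1, 0], _, vec_ne, rfl⟩, h.line⟩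

/-- `X` moves `R`. -/
theorem ent_X_not (h : Ent K S P M i N) :
    ¬ BTwo.XX (fac M i) (BTwo.pt N) ≤ normalizer (line M i : Set G) := by
  intro h0
  obtain ⟨k₀, hk₀⟩ := ent_exists_pt h
  obtain ⟨k, hk, -⟩ := h.bts.third k₀ k₀
  obtain ⟨x, hx, h1⟩ := h.bts.toBT.trans_X_one k₀ k
  rw [hk₀] at h1
  have h2 : cj x (line M i) = line M i := cj_eq_of_mem_normalizer (h0 hx)
  have h3 : BTwo.pt N k = BTwo.pt N k₀ := by
    rw [← h1, hk₀]
    exact h2
  have h4 := h.bts.R_inf k k₀ hk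
  rw [h3, inf_idem] at h4
  exact h.bts.R_ne k₀ h4

/-- The elements of `CenX` centralised by `T ∩ G₀` lie in `X_b`. -/
theorem ent_mem_Xb (h : Ent K S P M i N) {G₀ Xb : Subgroup G} (hX : BTwo.XX (fac M i) (BTwo.pt N) ≤ G₀)
    (nk : NK (stab M i) G₀ (line M i) Xb) {v : G} (hv : v ∈ stab M i ⊓ G₀)
    (hc : stab M i ⊓ G₀ ≤ centralizer ({v} : Set G)) (hcx : v ∈ BTwo.CenX (fac M i) (BTwo.pt N))
    (hl : v ∉ line M i) : v ∈ Xb := by
  refine M4.mem_other nk.zU nk.mix hv hc hl fun h6 => ent_X_not h (le_trans (le_inf hX fun x hx => ?_) h6)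
  rw [mem_centralizer_singleton_iff]
  exact mem_centralizer_iff.1 hcx x hx

/-- **`k > 2` is impossible.** -/
theorem ent_false (h : Ent K S P M i N) (hk : 2 < k) {G₀ Xb : Subgroup G}
    (hX : BTwo.XX (fac M i) (BTwo.pt N) ≤ G₀) (hQ : o2 (normalizer (line M i : Set G)) ≤ G₀)
    (hN : normalizer (line M i : Set G) ≤ normalizer (G₀ : Set G)) (nk : NK (stab M i) G₀ (line M i) Xb) : False := by
  have hfact : Fact (Nat.Prime 2) := ⟨Nat.prime_two⟩
  have hSP : (S : Subgroup G) ≤ P := h.four.le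
  set T := stab M i with hT
  have hTS : T ≤ (S : Subgroup G) := stab_le M i
  -- a second factor fixed by `T`
  have hlt : T < (S : Subgroup G) := by
    refine lt_of_le_of_ne hTS fun h0 => ?_
    have h1 := card_stab M hSP i
    rw [← hT, h0] at h1
    have h2 : 0 < Nat.card (S : Subgroup G) := Nat.card_pos
    nlinarith
  have hlt' := Lib.GoldschmidtFusion.lt_inf_normalizer S.isPGroup' hlt
  obtain ⟨s, ⟨hsS, hsN⟩, hsT⟩ := SetLike.exists_of_lt hlt'
  set j := sg M (hSP hsS) i with hj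
  have hji : j ≠ i := by
    intro h0
    apply hsT
    exact ⟨hsS, (mem_normalizer_fac_iff M (hSP hsS)).2 h0⟩
  have hcj : cj s (fac M i) = fac M j := conj_fac M (hSP hsS) i
  have hTj : T ≤ normalizer (fac M j : Set G) := by
    rw [← hcj, ← cj_normalizer, ← cj_eq_of_mem_normalizer hsN]
    exact cj_mono s (stab_normalizes M i)
  have hTi : T ≤ normalizer (fac M i : Set G) := stab_normalizes M i
  have hsgi : ∀ t (ht : t ∈ T), sg M (hSP (hTS ht)) i = i := fun t ht =>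
    (mem_normalizer_fac_iff M (hSP (hTS ht))).1 (hTi ht)
  have hsgj : ∀ t (ht : t ∈ T), sg M (hSP (hTS ht)) j = j := fun t ht =>
    (mem_normalizer_fac_iff M (hSP (hTS ht))).1 (hTj ht)
  -- the other factors
  set J : Set (Fin k) := {i, j}ᶜ with hJ
  have hTJ : T ≤ normalizer (part M J : Set G) := by
    intro t ht
    rw [mem_normalizer_part_iff M (hSP (hTS ht)), hJ, Set.image_compl_eq (sg M (hSP (hTS ht))).bijective,
      Set.image_pair, hsgi t ht, hsgj t ht]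
  obtain ⟨l, hl⟩ : ∃ l : Fin k, l ∈ J := by
    by_contra hcon
    push Not at hcon
    have h1 : (Finset.univ : Finset (Fin k)) ⊆ {i, j} := by
      intro l _
      have h2 := hcon l
      rw [hJ, Set.mem_compl_iff, not_not] at h2
      simpa using h2
    have h2 := Finset.card_le_card h1
    rw [Finset.card_univ, Fintype.card_fin] at h2
    have h3 : ({i, j} : Finset (Fin k)).card ≤ 2 := Finset.card_le_two
    omega
  have hJne : part M J ≠ ⊥ := by
    intro h0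
    apply fac_ne_bot M l
    rw [eq_bot_iff, ← h0]
    exact part_mono M (Set.singleton_subset_iff.2 hl)
  have hsq : ∀ I : Set (Fin k), IsPGroup 2 (part M I) := fun I =>
    isPGroup_of_sq fun x hx => sq M (part_le M I hx)
  have hT2 : IsPGroup 2 T := S.isPGroup'.to_le hTS
  obtain ⟨z₁, hz₁, hz₁1, hz₁T⟩ := Half.exists_fixed (V := fac M j) (hsq {j}) (fac_ne_bot M j) hT2 hTj
  obtain ⟨z₂, hz₂, hz₂1, hz₂T⟩ := Half.exists_fixed (V := part M J) (hsq J) hJne hT2 hTJ
  -- `V^i ≤ T ∩ G₀ ∩ CenX`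
  have hall : ∀ I : Set (Fin k), part M I ≤ o2 (normalizer (line M i : Set G)) := fun I =>
    part_le_of M fun l _ => h.four.one.all_le l
  have hpT : ∀ I : Set (Fin k), part M I ≤ T ⊓ G₀ := fun I => le_inf ((hall I).trans h.four.one.QT) ((hall I).trans hQ)
  have hcen : ∀ I : Set (Fin k), i ∉ I → part M I ≤ BTwo.CenX (fac M i) (BTwo.pt N) := fun I hI =>
    part_le_of M fun l hl => h.cen l fun h0 => hI (h0 ▸ hl)
  have hline : ∀ I : Set (Fin k), i ∉ I → ∀ v ∈ part M I, v ∈ line M i → v = 1 := by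
    intro I hI v hv hvl
    have h1 : v ∈ part M (I ∩ {i}) := by
      rw [← part_inf]
      exact ⟨hv, line_le M i hvl⟩
    rw [Set.inter_singleton_eq_empty.2 hI, part_empty] at h1
    exact mem_bot.1 h1
  have hiJ : i ∉ J := by rw [hJ]; simp
  have hij : i ∉ ({j} : Set (Fin k)) := fun h0 => hji (Set.mem_singleton_iff.1 h0).symm
  have hdis : Disjoint ({j} : Set (Fin k)) J := by
    rw [Set.disjoint_singleton_left, hJ]; simp
  have hfix : ∀ {v : G}, (∀ t ∈ T, t * v * t⁻¹ = v) → T ⊓ G₀ ≤ centralizer ({v} : Set G) := by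
    intro v hv t ht
    rw [mem_centralizer_singleton_iff]
    have h1 := hv t ht.1
    calc t * v = t * v * t⁻¹ * t := by group
      _ = v * t := by rw [h1]
  have hz₁b : z₁ ∈ Xb := ent_mem_Xb h hX nk (hpT _ hz₁) (hfix hz₁T) (hcen _ hij hz₁) fun h0 => hz₁1 (hline _ hij _ hz₁ h0)
  have hz₂b : z₂ ∈ Xb := ent_mem_Xb h hX nk (hpT _ hz₂) (hfix hz₂T) (hcen _ hiJ hz₂) fun h0 => hz₂1 (hline _ hiJ _ hz₂ h0)
  -- `V_j ≤ X_b`
  have hle : fac M j ≤ Xb := by
    intro v hv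
    by_cases hv1 : v = 1
    · rw [hv1]; exact one_mem _
    obtain ⟨g, hg, rfl⟩ := exists_grp M hz₁ hv hz₁1 hv1
    -- `g ∈ L_j` centralises `z₂` and `R`
    have hgz : g * z₂ = z₂ * g := grp_comm M hdis hg hz₂
    have hgR : g ∈ normalizer (line M i : Set G) := by
      apply centralizer_le_normalizer
      rw [mem_centralizer_iff]
      intro r hr
      exact (grp_comm M (Set.disjoint_singleton.2 hji) hg (line_le M i hr)).symm
    have hgG := hN hgR
    refine ent_mem_Xb h hX nk (hpT _ hv) (fun u hu => ?_) (hcen _ hij hv) fun h0 => hv1 (hline _ hij _ hv h0)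
    have hu2 := mem_centralizer_singleton_iff.1 (hfix hz₂T hu)
    have hgu : g⁻¹ * u * g ∈ G₀ := by
      have := (mem_normalizer_iff.1 (inv_mem hgG) u).1 hu.2
      rwa [inv_inv] at this
    have hgz' : g⁻¹ * z₂ = z₂ * g⁻¹ := by
      calc g⁻¹ * z₂ = g⁻¹ * (z₂ * g) * g⁻¹ := by group
        _ = z₂ * g⁻¹ := by rw [← hgz]; group
    have h1 : g⁻¹ * u * g ∈ centralizer (Xb : Set G) := by
      refine nk.one z₂ hz₂b hz₂1 ⟨hgu, mem_centralizer_singleton_iff.2 ?_⟩
      calc g⁻¹ * u * g * z₂ = g⁻¹ * (u * z₂) * g := by rw [mul_assoc, hgz]; group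
        _ = g⁻¹ * z₂ * u * g := by rw [hu2]; group
        _ = z₂ * (g⁻¹ * u * g) := by rw [hgz']; group
    have h2 := mem_centralizer_iff.1 h1 z₁ hz₁b
    rw [mem_centralizer_singleton_iff]
    calc u * (g * z₁ * g⁻¹) = g * (g⁻¹ * u * g * z₁) * g⁻¹ := by group
      _ = g * (z₁ * (g⁻¹ * u * g)) * g⁻¹ := by rw [h2]
      _ = g * z₁ * g⁻¹ * u := by group
  -- `q² ≤ |X_b| ≤ q`
  have h1 := (card_le_of_le hle).trans nk.card
  rw [card_fac, card_line] at h1
  have h2 : 4 ≤ Nat.card F := h.four.q4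
  nlinarith

open Cfsg.Agent.Omega.HOne.TLift in
/-- `SitT` for `BigFour.Ent` -/
theorem ent_sitT (h : Ent K S P M i N) (hk : 2 < k) : SitT (stab M i) N where
  ctx := h.hyp.ctx
  two := h.four.T2
  le_N := stab_normalizes M i
  exists_pt := by
    refine ⟨⟨N.line ![1, 0], _, vec_ne, rfl⟩, ?_⟩
    have h1 : BTwo.pt N ⟨N.line ![1, 0], _, vec_ne, rfl⟩ = line M i := h.line
    rw [h1]
    refine ⟨stab_normalizes_line M h.four.le i, ?_⟩
    rw [← Nat.not_even_iff_odd, even_iff_two_dvd]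
    exact h.four.syl
  bts := h.bts
  four := h.four.q4
  CenX_ne := by
    intro h0
    obtain ⟨j, hj⟩ : ∃ j : Fin k, j ≠ i := by
      have : Nontrivial (Fin k) := Fin.nontrivial_iff_two_le.2 hk.le
      exact exists_ne i
    apply fac_ne_bot M j
    rw [eq_bot_iff, ← h0]
    exact h.cen j hj

open Cfsg.Agent.Omega.HOne.TLift Cfsg.Agent.Omega.HOneQ.SylIOf in
/-- **`NoBigEnt K`** from the sockets of the chain over `T`. -/
theorem noBigEnt (KR : Cfsg.Agent.Omega.Lie.LayerMain.KRows.{u}) (hF : FrT.{u}) (hD : DT.{u}) (hRs : RsT.{u})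
    (hNV : NVT.{u}) (hRes : ResT.{u}) (hGa : GaT.{u}) : NoBigEnt K := by
  intro G _ _ S P F _ _ _ k M i N hk h
  obtain ⟨k₀, hk₀⟩ := ent_exists_pt h
  have h' := ent_sitT h hk
  have hi : TSyl (fac M i) (BTwo.pt N) k₀ (stab M i) := by
    refine ⟨h'.two, h'.le_N, ?_, ?_⟩
    · rw [hk₀]
      exact stab_normalizes_line M h.four.le i
    · rw [hk₀, ← Nat.not_even_iff_odd, even_iff_two_dvd]
      exact h.four.syl
  obtain ⟨G₀, U, x, o⟩ := h'.out (h'.layS KR) hF hD hRs hNV hRes hGa hi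
  have h1 := o.endIn
  have h2 := o.Q_le
  rw [hk₀] at h1 h2
  obtain ⟨Xb, nk⟩ := idN h1
  exact ent_false h hk o.X_le h2 h1.N_R nk

end Cfsg.Agent.Omega.IId.BigFour
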